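import Cfsg.Agent.GreenThree.Field
import Cfsg.Agent.SmallDegree.ModReduction
import Mathlib.RingTheory.Valuation.LocalSubring
import Mathlib.RingTheory.Valuation.ValuationSubring
import Mathlib.RingTheory.Flat.TorsionFree
import Mathlib.RingTheory.LocalRing.Module
import Mathlib.RingTheory.LocalRing.ResidueField.Defs
import Mathlib.RingTheory.Localization.Module
import Mathlib.LinearAlgebra.Matrix.BilinearForm
import Mathlib.LinearAlgebra.Matrix.ToLin
import Mathlib.FieldTheory.IsAlgClosed.Basic
import Mathlib.Analysis.Complex.Polynomial.Basic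

/-!
# An orthogonal lattice and its reduction

An invariant symmetric form on a complex representation survives reduction modulo a valuation over
`p`, and so an orthogonal representation of degree `(p + 1) / 2` gives at most `p + 1` Sylow
subgroups.
-/

set_option autoImplicit false
set_option linter.unusedSectionVars false
set_option linter.style.haveILetI false

namespace CfsgLib.GreenThree

open Finset CfsgLib.SmallDegree Polynomial
open scoped Classical Matrix

universe u

variable {p : ℕ} [hp : Fact p.Prime] {G : Type u} [Group G] [Finite G]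

/-- A valuation ring of `ℂ` over `p`. -/
theorem exists_valuationSubring (p : ℕ) [hp : Fact p.Prime] :
    ∃ A : ValuationSubring ℂ, CharP (IsLocalRing.ResidueField A) p := by
  obtain ⟨I, hI⟩ : ∃ I : Ideal (⊥ : Subring ℂ),
      I = Ideal.span {(p : (⊥ : Subring ℂ))} := ⟨_, rfl⟩
  have hI' : I ≠ ⊤ := by
    rw [hI, Ne, Ideal.span_singleton_eq_top, isUnit_iff_exists_inv]
    rintro ⟨⟨b, hb⟩, hb1⟩
    obtain ⟨m, rfl⟩ := Subring.mem_bot.1 hb
    have h1 := congrArg Subtype.val hb1
    simp only [Subring.coe_mul, Subring.coe_one, SubringClass.coe_natCast] at h1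
    have h2 : ((p : ℤ) * m) = 1 := by exact_mod_cast h1
    rcases Int.eq_one_or_neg_one_of_mul_eq_one h2 with h3 | h3
    · exact hp.out.one_lt.ne' (by exact_mod_cast h3)
    · omega
  obtain ⟨A, -, hA⟩ := Ideal.image_subset_nonunits_valuationSubring I hI'
  refine ⟨A, ?_⟩
  have h1 : ((p : ℂ)) ∈ A.nonunits := by
    refine hA ⟨(p : (⊥ : Subring ℂ)), ?_, by simp⟩
    rw [hI]; exact Ideal.subset_span rfl
  have h2 : (p : IsLocalRing.ResidueField A) = 0 := by
    rw [← map_natCast (IsLocalRing.residue A), IsLocalRing.residue_eq_zero_iff]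
    have h1' : (p : ℂ) ∈ (A.nonunits : Set ℂ) := h1
    rw [← A.image_maximalIdeal] at h1'
    obtain ⟨a, ha, hap⟩ := h1'
    rwa [show (p : A) = a from Subtype.ext (by rw [hap]; simp)]
  exact (CharP.charP_iff_prime_eq_zero hp.out).2 h2

/-- **The reduction.** -/
theorem exists_orthogonal_model (A : ValuationSubring ℂ) [CharP (IsLocalRing.ResidueField A) p]
    {n : ℕ} (σ : Representation ℂ G (Fin n → ℂ)) (hinj : Function.Injective σ)
    (Q : LinearMap.BilinForm ℂ (Fin n → ℂ)) (hQs : ∀ v w, Q v w = Q w v)
    (hQi : ∀ g v w, Q (σ g v) (σ g w) = Q v w) (hQ0 : Q ≠ 0) :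
    ∃ (ρ : G →* Module.End (IsLocalRing.ResidueField A) (Fin n → IsLocalRing.ResidueField A))
      (B : LinearMap.BilinForm (IsLocalRing.ResidueField A) (Fin n → IsLocalRing.ResidueField A)),
      (∀ h : G, (orderOf h).Coprime p → ρ h = 1 → h = 1) ∧ (∀ v w, B v w = B w v) ∧
      (∀ g v w, B (ρ g v) (ρ g w) = B v w) ∧ B ≠ 0 := by
  obtain ⟨Λ, hΛ⟩ : ∃ Λ : Submodule A (Fin n → ℂ),
      Submodule.span A (Set.range fun a : G × Fin n => σ a.1 (Pi.single a.2 1)) = Λ := ⟨_, rfl⟩
  haveI : Module.Finite A Λ := hΛ ▸ Module.Finite.span_of_finite A (Set.finite_range _)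
  haveI : Module.Flat A Λ := Module.Flat.flat_iff_torsion_eq_bot_of_isBezout.2 (by
    rw [← Submodule.isTorsionFree_iff_torsion_eq_bot]
    infer_instance)
  haveI : Module.Free A Λ := Module.free_of_flat_of_isLocalRing
  let b₀ := Module.Free.chooseBasis A Λ
  obtain ⟨ι, hιdef⟩ : ∃ ι, ι = Module.Free.ChooseBasisIndex A Λ := ⟨_, rfl⟩
  have hmem : ∀ g i, σ g (Pi.single i 1) ∈ Λ := fun g i => by
    rw [← hΛ]; exact Submodule.subset_span ⟨(g, i), rfl⟩
  -- the basis has `n` elements
  have hli : LinearIndependent A fun i => ((b₀ i : Λ) : Fin n → ℂ) :=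
    b₀.linearIndependent.map' Λ.subtype (Submodule.ker_subtype Λ)
  have hliC : LinearIndependent ℂ fun i => ((b₀ i : Λ) : Fin n → ℂ) :=
    (LinearIndependent.iff_fractionRing A ℂ).1 hli
  have hspanC : ⊤ ≤ Submodule.span ℂ (Set.range fun i => ((b₀ i : Λ) : Fin n → ℂ)) := by
    intro v _
    rw [pi_eq_sum_univ v]
    refine Submodule.sum_mem _ fun i _ => Submodule.smul_mem _ _ ?_
    have hi : (fun j => if i = j then (1 : ℂ) else 0) = σ 1 (Pi.single i 1) := by
      rw [map_one, Module.End.one_apply]
      funext j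
      simp [Pi.single_apply, eq_comm]
    rw [hi]
    have h1 := congrArg Subtype.val (b₀.sum_repr ⟨σ 1 (Pi.single i 1), hmem 1 i⟩)
    simp only [Submodule.coe_sum, Submodule.coe_smul] at h1
    rw [← h1]
    refine Submodule.sum_mem _ fun j _ => ?_
    exact Submodule.smul_mem (Submodule.span ℂ _) ((b₀.repr ⟨σ 1 (Pi.single i 1), hmem 1 i⟩ j : A) : ℂ)
      (Submodule.subset_span ⟨j, rfl⟩)
  have hcard : Fintype.card (Module.Free.ChooseBasisIndex A Λ) = n := by
    rw [← Module.finrank_eq_card_basis (Module.Basis.mk hliC hspanC), Module.finrank_fin_fun]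
  let b := b₀.reindex (Fintype.equivFinOfCardEq hcard)
  obtain ⟨v, hv⟩ : ∃ v : Fin n → (Fin n → ℂ), ∀ i, v i = ((b i : Λ) : Fin n → ℂ) := ⟨_, fun _ => rfl⟩
  have hvspan : ∀ w, w ∈ Submodule.span ℂ (Set.range v) := fun w => by
    have h1 := hspanC (Submodule.mem_top (x := w))
    refine Submodule.span_mono ?_ h1
    rintro _ ⟨i, rfl⟩
    exact ⟨Fintype.equivFinOfCardEq hcard i, by simp [hv, b]⟩
  -- the action
  have hinv : ∀ g, ∀ w ∈ Λ, σ g w ∈ Λ := by
    intro g w hw
    have h : Λ.map ((σ g).restrictScalars A) ≤ Λ := by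
      conv_lhs => rw [← hΛ]
      rw [Submodule.map_span_le]
      rintro _ ⟨a, rfl⟩
      rw [LinearMap.restrictScalars_apply, ← Module.End.mul_apply, ← map_mul]
      exact hmem _ _
    exact h (Submodule.mem_map_of_mem hw)
  let T : G →* Module.End A Λ :=
    { toFun := fun g => ((σ g).restrictScalars A).restrict (hinv g)
      map_one' := LinearMap.ext fun w => Subtype.ext (by simp)
      map_mul' := fun g h => LinearMap.ext fun w => Subtype.ext (show σ (g * h) w = σ g (σ h w) by rw [map_mul]; rfl) }
  have hT : ∀ g (w : Λ), ((T g w : Λ) : Fin n → ℂ) = σ g w := fun g w => rfl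
  let res := IsLocalRing.residue A
  obtain ⟨R, hR⟩ : ∃ R : G →* Matrix (Fin n) (Fin n) A,
      ∀ g, R g = LinearMap.toMatrixAlgEquiv b (T g) :=
    ⟨(LinearMap.toMatrixAlgEquiv b).toMulEquiv.toMonoidHom.comp T, fun _ => rfl⟩
  obtain ⟨ρ, hρ⟩ : ∃ ρ : G →* Module.End (IsLocalRing.ResidueField A) (Fin n → IsLocalRing.ResidueField A),
      ∀ g, ρ g = Matrix.toLinAlgEquiv' (res.mapMatrix (R g)) :=
    ⟨Matrix.toLinAlgEquiv'.toMulEquiv.toMonoidHom.comp ((res.mapMatrix.toMonoidHom).comp R),
      fun _ => rfl⟩
  -- the form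
  obtain ⟨q, hq⟩ : ∃ q : Fin n → Fin n → ℂ, ∀ i j, q i j = Q (v i) (v j) := ⟨_, fun _ _ => rfl⟩
  have hne : ((univ : Finset (Fin n × Fin n)).filter fun a => q a.1 a.2 ≠ 0).Nonempty := by
    rw [nonempty_iff_ne_empty]
    intro he
    apply hQ0
    have h1 : ∀ i j, q i j = 0 := fun i j => by
      by_contra h
      exact (Finset.eq_empty_iff_forall_notMem.1 he) (i, j) (mem_filter.2 ⟨mem_univ _, h⟩)
    refine LinearMap.ext fun w => LinearMap.ext fun w' => ?_
    have h2 : ∀ i, Q (v i) w' = 0 := fun i => by
      induction hvspan w' using Submodule.span_induction with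
      | mem w' hw' => obtain ⟨j, rfl⟩ := hw'; rw [← hq]; exact h1 i j
      | zero => simp
      | add a a' _ _ ha ha' => rw [map_add, ha, ha', add_zero]
      | smul c a _ ha => rw [map_smul, ha, smul_zero]
    induction hvspan w using Submodule.span_induction with
    | mem w hw => obtain ⟨i, rfl⟩ := hw; simpa using h2 i
    | zero => simp
    | add a a' _ _ ha ha' => simp only [map_add, LinearMap.add_apply, ha, ha', LinearMap.zero_apply, add_zero]
    | smul c a _ ha => simp only [map_smul, LinearMap.smul_apply, ha, LinearMap.zero_apply, smul_zero]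
  obtain ⟨a₀, ha₀, hmax⟩ := exists_max_image _ (fun a : Fin n × Fin n => A.valuation (q a.1 a.2)) hne
  rw [mem_filter] at ha₀
  have hqA : ∀ i j, q i j / q a₀.1 a₀.2 ∈ A := fun i j => by
    rw [← A.valuation_le_one_iff, map_div₀]
    by_cases h : q i j = 0
    · simp [h]
    · exact (div_le_one₀ (zero_lt_iff.2 ((map_ne_zero A.valuation).2 ha₀.2))).2
        (hmax (i, j) (mem_filter.2 ⟨mem_univ _, h⟩))
  obtain ⟨qA, hqA'⟩ : ∃ qA : Matrix (Fin n) (Fin n) A, ∀ i j, ((qA i j : A) : ℂ) = q i j / q a₀.1 a₀.2 :=
    ⟨fun i j => ⟨_, hqA i j⟩, fun _ _ => rfl⟩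
  have hσv : ∀ g i, σ g (v i) = ∑ a, ((R g a i : A) : ℂ) • v a := by
    intro g i
    have h1 := congrArg Subtype.val (b.sum_repr (T g (b i)))
    simp only [Submodule.coe_sum, Submodule.coe_smul, hT] at h1
    rw [hv i, ← h1]
    refine sum_congr rfl fun a _ => ?_
    rw [hR, LinearMap.toMatrixAlgEquiv_apply, hv a]
    rfl
  have hinvA : ∀ g, (R g)ᵀ * qA * R g = qA := by
    intro g
    refine Matrix.ext fun i j => Subtype.ext ?_
    simp only [Matrix.mul_apply, Matrix.transpose_apply, AddSubmonoidClass.coe_finsetSum, MulMemClass.coe_mul,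
      hqA', hq]
    conv_rhs => rw [← hQi g, hσv, hσv]
    simp only [map_sum, map_smul, LinearMap.sum_apply, LinearMap.smul_apply, smul_eq_mul, sum_div,
      sum_mul]
    refine sum_congr rfl fun a _ => ?_
    rw [mul_sum, sum_div]
    refine sum_congr rfl fun c _ => ?_
    ring
  refine ⟨ρ, Matrix.toBilin' (res.mapMatrix qA), fun h hco hh => ?_, fun w w' => ?_, fun g w w' => ?_, ?_⟩
  · -- the kernel
    obtain ⟨D, hD⟩ : ∃ D, D = R h - 1 := ⟨_, rfl⟩
    have hD0 : res.mapMatrix D = 0 := by
      rw [hρ] at hh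
      rw [hD, map_sub, map_one, sub_eq_zero]
      exact (Matrix.toLinAlgEquiv'.injective (hh.trans (map_one Matrix.toLinAlgEquiv').symm))
    obtain ⟨S', hS'⟩ := exists_pow_one_add D (orderOf h)
    rw [hD, add_sub_cancel, ← map_pow, pow_orderOf_eq_one, map_one, ← hD, add_assoc, left_eq_add]
      at hS'
    have hfac : D * ((orderOf h : Matrix (Fin n) (Fin n) A) + D * S') = 0 := by
      rw [mul_add, ← (Nat.cast_commute (orderOf h) D).eq, hS']
    have hunit : IsUnit ((orderOf h : Matrix (Fin n) (Fin n) A) + D * S') := by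
      rw [Matrix.isUnit_iff_isUnit_det, ← isUnit_map_iff res, RingHom.map_det, map_add, map_mul, hD0,
        zero_mul, add_zero, map_natCast, ← Matrix.isUnit_iff_isUnit_det]
      have h1 : ((orderOf h : ℕ) : IsLocalRing.ResidueField A) ≠ 0 := fun h0 => by
        rw [CharP.cast_eq_zero_iff (IsLocalRing.ResidueField A) p] at h0
        exact hp.out.one_lt.ne' (Nat.dvd_one.1 (hco ▸ Nat.dvd_gcd h0 dvd_rfl))
      have h2 := (isUnit_iff_ne_zero.2 h1).map
        (algebraMap (IsLocalRing.ResidueField A) (Matrix (Fin n) (Fin n) (IsLocalRing.ResidueField A)))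
      rwa [map_natCast] at h2
    have hRh : R h = 1 := by
      have := hunit.mul_left_eq_zero.1 hfac
      rwa [hD, sub_eq_zero] at this
    have hTh : T h = 1 := (LinearMap.toMatrixAlgEquiv b).injective (by rw [← hR, hRh, map_one])
    refine hinj (LinearMap.ext fun w => ?_)
    rw [map_one, Module.End.one_apply]
    induction hvspan w using Submodule.span_induction with
    | mem w hw =>
      obtain ⟨i, rfl⟩ := hw
      rw [hv, ← hT, hTh]
      rfl
    | zero => simp
    | add a a' _ _ ha ha' => rw [map_add, ha, ha']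
    | smul c a _ ha => rw [map_smul, ha]
  · rw [Matrix.toBilin'_apply, Matrix.toBilin'_apply, sum_comm]
    refine sum_congr rfl fun i _ => sum_congr rfl fun j _ => ?_
    have : qA i j = qA j i := Subtype.ext (by rw [hqA', hqA', hq i, hq j, hQs (v i)])
    simp only [RingHom.mapMatrix_apply, Matrix.map_apply, this]
    ring
  · have h1 := congrArg res.mapMatrix (hinvA g)
    rw [map_mul, map_mul] at h1
    have h2 := LinearMap.congr_fun (LinearMap.congr_fun
      (Matrix.toBilin'_comp (res.mapMatrix qA) (res.mapMatrix (R g)) (res.mapMatrix (R g))) w) w'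
    rw [LinearMap.BilinForm.comp_apply] at h2
    rw [hρ]
    refine h2.trans ?_
    congr 3
  · intro h0
    have h1 := LinearMap.congr_fun (LinearMap.congr_fun h0 (Pi.single a₀.1 1)) (Pi.single a₀.2 1)
    rw [Matrix.toBilin'_single, RingHom.mapMatrix_apply, Matrix.map_apply] at h1
    have h2 : qA a₀.1 a₀.2 = 1 := Subtype.ext (by rw [hqA', div_self ha₀.2]; rfl)
    rw [h2, map_one] at h1
    exact one_ne_zero h1

/-- **An orthogonal representation of degree `(p + 1) / 2`**: at most `p + 1` Sylow subgroups. -/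
theorem card_sylow_le_of_orthogonal (hp7 : 7 ≤ p) {x : G} (hx : orderOf x = p) (P : Sylow p G)
    (hP : (P : Subgroup G) = Subgroup.zpowers x)
    (hG : ∀ K : Subgroup G, K.Normal → x ∉ K → ∀ k ∈ K, Commute x k)
    (hnp : ¬ IsPGroup p G) (hsimple : ∀ K : Subgroup G, K.Normal → K = ⊥ ∨ K = ⊤)
    {n : ℕ} (hn : 2 * n = p + 1) (hneven : n % 2 = 1)
    (σ : Representation ℂ G (Fin n → ℂ)) (hinj : Function.Injective σ)
    (Q : LinearMap.BilinForm ℂ (Fin n → ℂ)) (hQs : ∀ v w, Q v w = Q w v)
    (hQi : ∀ g v w, Q (σ g v) (σ g w) = Q v w) (hQ0 : Q ≠ 0) :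
    Nat.card (Sylow p G) ≤ p + 1 := by
  obtain ⟨A, hA⟩ := exists_valuationSubring p
  obtain ⟨ρ, B, hker, hBs, hBi, hB0⟩ := exists_orthogonal_model (p := p) A σ hinj Q hQs hQi hQ0
  have hρx : ρ x ≠ 1 := by
    intro h1
    haveI : ρ.ker.Normal := MonoidHom.normal_ker ρ
    rcases hsimple ρ.ker inferInstance with h | h
    · have := (Subgroup.eq_bot_iff_forall _).1 h x (MonoidHom.mem_ker.2 h1)
      rw [this, orderOf_one] at hx
      exact hp.out.one_lt.ne hx
    · refine hnp fun g => ⟨(orderOf g).factorization p, ?_⟩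
      refine hker _ ?_ (MonoidHom.mem_ker.1 (h ▸ Subgroup.mem_top _))
      rw [orderOf_pow' _ (pow_ne_zero _ hp.out.ne_zero),
        Nat.gcd_eq_right (Nat.ordProj_dvd (orderOf g) p)]
      exact (Nat.coprime_ordCompl hp.out (orderOf_pos g).ne').symm
  obtain ⟨N, hN⟩ : ∃ N, N = ρ x - 1 := ⟨_, rfl⟩
  have hNp : N ^ p = 0 := by
    have h1 : ((X - 1 : (IsLocalRing.ResidueField A)[X])) ^ p = X ^ p - 1 := by
      rw [sub_pow_char, one_pow]
    have h2 := congrArg (aeval (ρ x)) h1
    simp only [map_pow, map_sub, aeval_X, map_one] at h2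
    rw [hN, h2, ← map_pow, ← hx, pow_orderOf_eq_one, map_one, sub_self]
  have hNn : N ^ n = 0 := by
    have h1 := Module.End.ker_pow_le_ker_pow_finrank N p
    rw [hNp, Module.finrank_fin_fun, LinearMap.ker_zero] at h1
    exact LinearMap.ker_eq_top.1 (top_le_iff.1 h1)
  by_cases hN1 : N ^ (n - 1) = 0
  · exact card_sylow_le_of_field hp7 hx P hP hG ρ (r := n - 1) (by rw [← hN]; exact hN1) (by omega) hρx
  obtain ⟨e, he⟩ : ∃ e, (N ^ (n - 1)) e ≠ 0 := by
    by_contra hall
    push Not at hall
    exact hN1 (LinearMap.ext hall)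
  have hadd : ∀ a c, (N ^ a) ((N ^ c) e) = (N ^ (a + c)) e := fun a c => by
    rw [pow_add, Module.End.mul_apply]
  have hkill : ∀ j, n ≤ j → (N ^ j) e = 0 := fun j hj => by
    rw [pow_eq_zero_of_le hj hNn, LinearMap.zero_apply]
  have hli : LinearIndependent (IsLocalRing.ResidueField A) fun j : Fin n => (N ^ (j : ℕ)) e := by
    rw [Fintype.linearIndependent_iff]
    intro c hc
    have hzero : ∀ j, ∀ hj : j < n, c ⟨j, hj⟩ = 0 := by
      intro j
      induction j using Nat.strong_induction_on with
      | _ j ih =>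
        intro hj
        have h := congrArg (N ^ (n - 1 - j)) hc
        rw [map_sum, map_zero, Finset.sum_eq_single ⟨j, hj⟩] at h
        · rw [map_smul, hadd, show n - 1 - j + j = n - 1 by omega] at h
          exact (smul_eq_zero.1 h).resolve_right he
        · intro i _ hi
          rcases lt_or_gt_of_ne (show (i : ℕ) ≠ j from fun e => hi (Fin.ext e)) with h' | h'
          · rw [ih i h' i.2, zero_smul, map_zero]
          · rw [map_smul, hadd, hkill _ (by omega), smul_zero]
        · exact fun h' => absurd (mem_univ _) h'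
    exact fun i => hzero i i.2
  haveI : NeZero n := ⟨by omega⟩
  have hspantop := hli.span_eq_top_of_card_eq_finrank (by simp)
  have hspan : ∀ v : Fin n → IsLocalRing.ResidueField A, ∃ (a : IsLocalRing.ResidueField A)
      (w : Fin n → IsLocalRing.ResidueField A), v = a • e + N w := by
    intro v
    have hv : v ∈ Submodule.span (IsLocalRing.ResidueField A) (Set.range fun j : Fin n => (N ^ (j : ℕ)) e) := by
      rw [hspantop]; trivial
    induction hv using Submodule.span_induction with
    | mem v hv =>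
      obtain ⟨⟨j, hj⟩, rfl⟩ := hv
      rcases Nat.eq_zero_or_pos j with rfl | hj0
      · exact ⟨1, 0, by simp⟩
      · exact ⟨0, (N ^ (j - 1)) e, by
          rw [zero_smul, zero_add, ← Module.End.mul_apply, ← pow_succ', Nat.sub_add_cancel hj0]⟩
    | zero => exact ⟨0, 0, by simp⟩
    | add a a' _ _ ha ha' =>
      obtain ⟨c, w, rfl⟩ := ha
      obtain ⟨c', w', rfl⟩ := ha'
      exact ⟨c + c', w + w', by rw [add_smul, map_add]; abel⟩
    | smul c a _ ha =>
      obtain ⟨c', w, rfl⟩ := ha
      exact ⟨c * c', c • w, by rw [smul_add, smul_smul, map_smul]⟩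
  obtain ⟨R0, hR0⟩ : ∃ R0, R0 = LinearMap.ker B := ⟨_, rfl⟩
  have hmemR : ∀ v, v ∈ R0 ↔ ∀ w, B v w = 0 := fun v => by
    rw [hR0, LinearMap.mem_ker, LinearMap.ext_iff]; simp
  have hRinv : ∀ g, ∀ v ∈ R0, ρ g v ∈ R0 := by
    intro g v hv
    rw [hmemR] at hv ⊢
    intro w
    rw [← hBi g⁻¹, ← Module.End.mul_apply, ← map_mul, inv_mul_cancel, map_one, Module.End.one_apply]
    exact hv _
  have hRN : ∀ v ∈ R0, N v ∈ R0 := fun v hv => by
    rw [hN, LinearMap.sub_apply, Module.End.one_apply]
    exact sub_mem (hRinv x v hv) hv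
  by_cases hbot : ∀ v ∈ R0, v = 0
  · exact card_sylow_le_of_block ρ hp7 hx P hP hG hn (hN ▸ hNn) (hN ▸ hspan) (hN ▸ he) B hBs hBi
      (fun v hv => hbot v ((hmemR v).2 hv)) hneven
  have hRNj : ∀ j, ∀ v ∈ R0, (N ^ j) v ∈ R0 := by
    intro j
    induction j with
    | zero => intro v hv; simpa using hv
    | succ j ih => intro v hv; rw [pow_succ', Module.End.mul_apply]; exact hRN _ (ih v hv)
  have heR : e ∉ R0 := fun he' => hB0 <| by
    have htop : R0 = ⊤ := by
      rw [eq_top_iff, ← hspantop, Submodule.span_le]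
      rintro _ ⟨j, rfl⟩
      exact hRNj _ _ he'
    exact LinearMap.ker_eq_top.1 (hR0 ▸ htop)
  by_cases hNe : N e ∈ R0
  · -- the radical
    let ρ' : G →* Module.End (IsLocalRing.ResidueField A) R0 :=
      { toFun := fun g => (ρ g).restrict (hRinv g)
        map_one' := LinearMap.ext fun v => Subtype.ext (by simp)
        map_mul' := fun g h => LinearMap.ext fun v => Subtype.ext (by simp) }
    have hsub : ∀ (j : ℕ) (v : R0), ((((ρ' x - 1) ^ j) v : R0) : Fin n → IsLocalRing.ResidueField A) =
        (N ^ j) (v : Fin n → IsLocalRing.ResidueField A) := by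
      intro j
      induction j with
      | zero => simp
      | succ j ih =>
        intro v
        rw [pow_succ, pow_succ, Module.End.mul_apply, Module.End.mul_apply, ih]
        congr 1
        simp [hN, ρ']
    refine card_sylow_le_of_field hp7 hx P hP hG ρ' (r := n - 1) ?_ (by omega) fun h => ?_
    · refine LinearMap.ext fun v => Subtype.ext ?_
      rw [hsub]
      obtain ⟨a, w, hv⟩ := hspan v
      have ha : a = 0 := by
        by_contra ha
        refine heR ?_
        have h2 : N w ∈ R0 := by
          obtain ⟨a', w', hw⟩ := hspan w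
          rw [hw, map_add, map_smul]
          refine add_mem (R0.smul_mem _ hNe) ?_
          have hall : ∀ u, N (N u) ∈ R0 := fun u => by
            have hu : u ∈ Submodule.span (IsLocalRing.ResidueField A) (Set.range fun j : Fin n => (N ^ (j : ℕ)) e) := by
              rw [hspantop]; trivial
            induction hu using Submodule.span_induction with
            | mem u hu =>
              obtain ⟨j, rfl⟩ := hu
              have := hRNj (j + 1) _ hNe
              have h6 : ∀ y, N y = (N ^ 1) y := fun y => by rw [pow_one]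
              rw [h6 e, hadd] at this
              show N (N ((N ^ (j : ℕ)) e)) ∈ R0
              rw [h6 ((N ^ (j : ℕ)) e), hadd, h6, hadd, show 1 + (1 + (j : ℕ)) = j + 1 + 1 by omega]
              exact this
            | zero => simp
            | add a a' _ _ ha ha' => rw [map_add, map_add]; exact add_mem ha ha'
            | smul c a _ ha => rw [map_smul, map_smul]; exact R0.smul_mem _ ha
          exact hall w'
        have h3 : a • e ∈ R0 := by
          have := sub_mem v.2 h2
          rwa [hv, add_sub_cancel_right] at this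
        exact (R0.smul_mem_iff ha).1 h3
      rw [hv, ha, zero_smul, zero_add, ← Module.End.mul_apply, ← pow_succ,
        show n - 1 + 1 = n by omega, hNn]
      rfl
    · have h1 := hsub 1 ⟨N e, hNe⟩
      rw [show ρ' x - 1 = 0 from sub_eq_zero.2 h, pow_one, pow_one, LinearMap.zero_apply] at h1
      have h2 : (N ^ 2) e = 0 := by
        rw [sq, Module.End.mul_apply]; exact h1.symm
      refine he ?_
      rw [show n - 1 = n - 3 + 2 by omega, pow_add, Module.End.mul_apply, h2, map_zero]
  · -- the quotient
    let ρ' : G →* Module.End (IsLocalRing.ResidueField A)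
        ((Fin n → IsLocalRing.ResidueField A) ⧸ R0) :=
      { toFun := fun g => R0.mapQ R0 (ρ g) (hRinv g)
        map_one' := Submodule.linearMap_qext _ (LinearMap.ext fun v => by simp)
        map_mul' := fun g h => Submodule.linearMap_qext _ (LinearMap.ext fun v => by simp) }
    have hsub : ∀ (j : ℕ) v, ((ρ' x - 1) ^ j) (Submodule.Quotient.mk v) =
        (Submodule.Quotient.mk ((N ^ j) v) : (Fin n → IsLocalRing.ResidueField A) ⧸ R0) := by
      intro j
      induction j with
      | zero => simp
      | succ j ih =>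
        intro v
        rw [pow_succ, pow_succ, Module.End.mul_apply, Module.End.mul_apply, ← ih]
        congr 1
        simp [hN, ρ']
    refine card_sylow_le_of_field hp7 hx P hP hG ρ' (r := n - 1) ?_ (by omega) fun h => hNe ?_
    · refine LinearMap.ext fun q => ?_
      obtain ⟨v, rfl⟩ := Submodule.Quotient.mk_surjective R0 q
      rw [hsub, LinearMap.zero_apply, Submodule.Quotient.mk_eq_zero]
      -- the socle lies in the radical
      have hf : (N ^ (n - 1)) e ∈ R0 := by
        push Not at hbot
        obtain ⟨u, hu, hu0⟩ := hbot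
        obtain ⟨j, hj, hjn⟩ : ∃ j, (N ^ j) u ≠ 0 ∧ N ((N ^ j) u) = 0 := by
          by_contra hall
          push Not at hall
          have h5 : ∀ j, (N ^ j) u ≠ 0 := by
            intro j
            induction j with
            | zero => simpa using hu0
            | succ j ih => rw [pow_succ', Module.End.mul_apply]; exact hall j ih
          exact h5 n (by rw [hNn, LinearMap.zero_apply])
        have hrange : ∀ w, ∃ a, (N ^ (n - 1)) w = a • (N ^ (n - 1)) e := fun w => by
          obtain ⟨a, w', rfl⟩ := hspan w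
          refine ⟨a, ?_⟩
          rw [map_add, map_smul, ← Module.End.mul_apply, ← pow_succ,
            show n - 1 + 1 = n by omega, hNn, LinearMap.zero_apply, add_zero]
        have htop : ∀ i, i ≤ n - 1 → ∃ w, (N ^ j) u = (N ^ i) w := by
          intro i
          induction i with
          | zero => intro _; exact ⟨(N ^ j) u, by simp⟩
          | succ i ih2 =>
            intro hi2
            obtain ⟨w, hw⟩ := ih2 (by omega)
            obtain ⟨a, w', rfl⟩ := hspan w
            have ha : a = 0 := by
              rw [hw] at hjn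
              have hh1 := congrArg (N ^ (n - 2 - i)) hjn
              rw [map_zero, ← Module.End.mul_apply, ← pow_succ, ← Module.End.mul_apply, ← pow_add,
                show n - 2 - i + 1 + i = n - 1 by omega, map_add, map_smul,
                ← Module.End.mul_apply, ← pow_succ, show n - 1 + 1 = n by omega, hNn,
                LinearMap.zero_apply, add_zero] at hh1
              exact (smul_eq_zero.1 hh1).resolve_right he
            refine ⟨w', ?_⟩
            rw [hw, ha, zero_smul, zero_add, ← Module.End.mul_apply, ← pow_succ]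
        obtain ⟨w, hw⟩ := htop (n - 1) le_rfl
        obtain ⟨a, ha⟩ := hrange w
        have h6 := hRNj j u hu
        rw [hw, ha] at h6
        refine (R0.smul_mem_iff ?_).1 h6
        intro h0
        rw [hw, ha, h0, zero_smul] at hj
        exact hj rfl
      obtain ⟨a, w', rfl⟩ := hspan v
      rw [map_add, map_smul, ← Module.End.mul_apply, ← pow_succ, show n - 1 + 1 = n by omega, hNn,
        LinearMap.zero_apply, add_zero]
      exact R0.smul_mem _ hf
    · have h1 := hsub 1 e
      rw [h, sub_self, pow_one, pow_one, LinearMap.zero_apply, eq_comm, Submodule.Quotient.mk_eq_zero]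
        at h1
      exact h1

end CfsgLib.GreenThree
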