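import Cfsg.Agent.GreenThree.Weight
import Mathlib.LinearAlgebra.Trace
import Mathlib.LinearAlgebra.Basis.Basic
import Mathlib.LinearAlgebra.Matrix.ToLin

/-!
# Small nilpotency forces at most `p + 1` Sylow subgroups

If `x`, generating a Sylow subgroup of order `p`, acts with `(x - 1) ^ r = 0` for some `2 r < p`, on a
module on which it is nontrivial, then the endomorphisms contain the three dimensional module, whose
endomorphisms carry the trace form, and so there are at most `p + 1` Sylow subgroups.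
-/

set_option autoImplicit false
set_option linter.unusedSectionVars false
set_option linter.style.haveILetI false

namespace CfsgLib.GreenThree

open Finset CfsgLib.SmallDegree Polynomial
open scoped Classical

universe u v

variable {p : ℕ} [hp : Fact p.Prime] {G : Type u} [Group G] [Finite G]
  {V : Type v} [AddCommGroup V] [Module (ZMod p) V] [FiniteDimensional (ZMod p) V]

theorem cj_sub_apply (ρ : G →* Module.End (ZMod p) V) (x : G) (A : Module.End (ZMod p) V) :
    (cj ρ x - 1) A = br (ρ x - 1) A * ρ x⁻¹ := by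
  rw [LinearMap.sub_apply, cj_apply, Module.End.one_apply, br]
  simp only [sub_mul, mul_sub, one_mul, mul_one, sub_sub_sub_cancel_right]
  rw [mul_assoc A (ρ x) (ρ x⁻¹), ← map_mul, mul_inv_cancel, map_one, mul_one]

theorem cj_sub_sub_apply (ρ : G →* Module.End (ZMod p) V) (x : G) (A : Module.End (ZMod p) V) :
    (cj ρ x - 1) ((cj ρ x - 1) A) = br (ρ x - 1) (br (ρ x - 1) A) * (ρ x⁻¹ * ρ x⁻¹) := by
  have hc : Commute (ρ x - 1) (ρ x⁻¹) :=
    ((Commute.refl x).inv_right.map ρ).sub_left (Commute.one_left _)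
  rw [cj_sub_apply, cj_sub_apply, br_mul_right hc, mul_assoc]

theorem cj_sub_logX (ρ : G →* Module.End (ZMod p) V) (x : G) :
    (cj ρ x - 1) (logX ρ x) = 0 := by
  rw [LinearMap.sub_apply, cj_apply, Module.End.one_apply, sub_eq_zero, (commute_logX ρ x).eq,
    mul_assoc, ← map_mul, mul_inv_cancel, map_one, mul_one]

/-- The preimage of the logarithm and a functional detecting it. -/
theorem exists_log_data (hp3 : 3 ≤ p) (ρ : G →* Module.End (ZMod p) V) {x : G} {r : ℕ}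
    (hr : (ρ x - 1) ^ r = 0) (hrp : r + 1 < p) (hρx : ρ x ≠ 1) :
    ∃ (Z : Module.End (ZMod p) V) (φ : Module.End (ZMod p) V →ₗ[ZMod p] ZMod p),
      (cj ρ x - 1) ((cj ρ x - 1) Z) = logX ρ x ∧
      (∀ A, φ ((cj ρ x - 1) ((cj ρ x - 1) ((cj ρ x - 1) A))) = 0) ∧ φ (logX ρ x) = 1 := by
  haveI : CharP (ZMod p) p := ZMod.charP p
  obtain ⟨Y, B, hY, hB, htr, htr2⟩ := exists_pair (p := p) hr hrp (sub_ne_zero.2 hρx)
  obtain ⟨N, hN⟩ : ∃ N, N = ρ x - 1 := ⟨_, rfl⟩
  rw [← hN] at hY hB htr htr2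
  obtain ⟨Q, hQ⟩ := exists_logX_eq ρ (x := x) hp3
  rw [← hN] at hQ
  obtain ⟨L, hLdef⟩ : ∃ L, L = logX ρ x := ⟨_, rfl⟩
  rw [← hLdef] at hQ ⊢
  obtain ⟨xi, hxi⟩ : ∃ xi, xi = ρ x⁻¹ := ⟨_, rfl⟩
  have hxx : ρ x * xi = 1 := by rw [hxi, ← map_mul, mul_inv_cancel, map_one]
  have hNx : Commute N (ρ x) := by rw [hN]; exact (Commute.refl _).sub_left (Commute.one_left _)
  have hNxi : Commute N xi := by
    rw [hN, hxi]
    exact ((Commute.refl x).inv_right.map ρ).sub_left (Commute.one_left _)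
  have hU2A : ∀ A, (cj ρ x - 1) ((cj ρ x - 1) A) = br N (br N A) * (xi * xi) := fun A => by
    rw [cj_sub_sub_apply, hN, hxi]
  obtain ⟨φ, hφU, hφX⟩ : ∃ φ : Module.End (ZMod p) V →ₗ[ZMod p] ZMod p,
      (∀ A, φ ((cj ρ x - 1) ((cj ρ x - 1) ((cj ρ x - 1) A))) = 0) ∧ φ L = 1 := by
    obtain ⟨c, hc⟩ : ∃ c, c = LinearMap.trace (ZMod p) V (L * B) := ⟨_, rfl⟩
    have hc0 : c ≠ 0 := by
      rw [hc, hQ, add_mul, neg_mul, map_add, map_neg, htr2 _ (commute_aeval N Q), add_zero, neg_ne_zero]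
      exact htr
    refine ⟨c⁻¹ • (LinearMap.trace (ZMod p) V ∘ₗ LinearMap.mulRight (ZMod p) B), fun A => ?_, ?_⟩
    · simp only [LinearMap.smul_apply, LinearMap.comp_apply, LinearMap.mulRight_apply]
      rw [hU2A, cj_sub_apply, ← hN, ← hxi, br_mul_right hNxi, br_mul_right hNxi, mul_assoc, mul_assoc,
        trace_br, trace_br, trace_br, br_mul_left hNxi, br_mul_left hNxi, br_mul_left hNxi,
        br_mul_left (hNxi.mul_right hNxi), br_mul_left (hNxi.mul_right hNxi),
        br_mul_left (hNxi.mul_right hNxi), hB]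
      simp
    · simp [← hc, hc0]
  refine ⟨(-2 : ZMod p)⁻¹ • (Y * ((-1 + N * aeval N Q) * (ρ x * ρ x))), φ, ?_, hφU, hφX⟩
  have h2 : (-2 : ZMod p) ≠ 0 := by
    rw [neg_ne_zero]
    intro h2
    have h2' : ((2 : ℕ) : ZMod p) = 0 := by exact_mod_cast h2
    have := Nat.le_of_dvd two_pos ((ZMod.natCast_eq_zero_iff _ _).1 h2')
    omega
  rw [hU2A, br, br]
  simp only [mul_smul_comm, smul_mul_assoc, ← smul_sub]
  have hcw : Commute N ((-1 + N * aeval N Q) * (ρ x * ρ x)) := by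
    refine Commute.mul_right ?_ (hNx.mul_right hNx)
    exact (Commute.one_right N).neg_right.add_right ((Commute.refl N).mul_right
      (commute_aeval N Q))
  have h3 := br_mul_right hcw Y
  have h4 := br_mul_right hcw (br N Y)
  rw [← h3] at h4
  simp only [br] at h4 hY
  rw [h4, hY, mul_assoc (-(2 * N)), mul_assoc (-1 + N * aeval N Q)]
  rw [mul_assoc (ρ x) (ρ x), ← mul_assoc (ρ x) xi xi, hxx, one_mul, hxx, mul_one, hQ]
  rw [inv_smul_eq_iff₀ h2]
  simp only [mul_add, mul_neg, mul_one, neg_mul, sq, smul_add, smul_neg, neg_smul, neg_neg,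
    two_smul, two_mul, add_mul, ← mul_assoc, neg_add_rev]

theorem cj_pow_eq_zero (ρ : G →* Module.End (ZMod p) V) {x : G} {r : ℕ}
    (hr : (ρ x - 1) ^ r = 0) (hrp : 2 * r ≤ p) : (cj ρ x - 1) ^ (p - 1) = 0 :=
  pow_eq_zero_of_le (by omega) (cj_sub_one_pow ρ hr)

/-- A three dimensional uniserial module. -/
theorem card_sylow_le_of_three (hp7 : 7 ≤ p) {x : G} (hx : orderOf x = p) (P : Sylow p G)
    (hP : (P : Subgroup G) = Subgroup.zpowers x)
    (hG : ∀ K : Subgroup G, K.Normal → x ∉ K → ∀ k ∈ K, Commute x k) (ρ : G →* Module.End (ZMod p) V) (e : V)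
    (h2 : (ρ x - 1) ((ρ x - 1) e) ≠ 0) (h3 : (ρ x - 1) ((ρ x - 1) ((ρ x - 1) e)) = 0)
    (hspan : ∀ v, ∃ a b c : ZMod p, v = a • e + b • (ρ x - 1) e + c • (ρ x - 1) ((ρ x - 1) e)) :
    Nat.card (Sylow p G) ≤ p + 1 := by
  obtain ⟨N, hN⟩ : ∃ N, N = ρ x - 1 := ⟨_, rfl⟩
  rw [← hN] at h2 h3 hspan
  have hr : (ρ x - 1) ^ 3 = 0 := LinearMap.ext fun v => by
    obtain ⟨a, b, c, rfl⟩ := hspan v
    rw [← hN]
    simp [pow_succ, h3]
  have hρx : ρ x ≠ 1 := fun h => h2 (by simp [hN, h])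
  obtain ⟨Z, φ, hZ, -, -⟩ := exists_log_data (by omega) ρ hr (by omega) hρx
  let b : LinearMap.BilinForm (ZMod p) (Module.End (ZMod p) V) :=
    LinearMap.mk₂ (ZMod p) (fun A B => LinearMap.trace (ZMod p) V (A * B))
      (fun A A' B => by rw [add_mul, map_add]) (fun c A B => by rw [smul_mul_assoc, map_smul])
      (fun A B B' => by rw [mul_add, map_add]) (fun c A B => by rw [mul_smul_comm, map_smul])
  have hb : ∀ A B, b A B = LinearMap.trace (ZMod p) V (A * B) := fun A B => rfl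
  refine card_sylow_le_of_vector (by omega) hx P hP hG (cj_pow_eq_zero ρ hr (by omega)) b
    (fun A B => by rw [hb, hb, LinearMap.trace_mul_comm]) (fun g A B => ?_) hZ (cj_sub_logX ρ x)
    (fun g a ha hg => cj_logX_eq ρ hx ha hg) ?_
  · rw [hb, hb, cj_apply, cj_apply, show ρ g * A * ρ g⁻¹ * (ρ g * B * ρ g⁻¹) =
      ρ g * (A * (ρ g⁻¹ * ρ g) * B * ρ g⁻¹) by simp only [mul_assoc],
      ← map_mul ρ g⁻¹ g, inv_mul_cancel, map_one, mul_one, LinearMap.trace_mul_comm, mul_assoc (A * B),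
      ← map_mul ρ g⁻¹ g, inv_mul_cancel, map_one, mul_one]
  -- the computation in coordinates
  obtain ⟨Q, hQ⟩ := exists_logX_eq ρ (x := x) (show 3 ≤ p by omega)
  rw [cj_sub_sub_apply] at hZ
  rw [← hN] at hQ hZ
  have hli : LinearIndependent (ZMod p) ![e, N e, N (N e)] := by
    rw [Fintype.linearIndependent_iff]
    intro g hg
    simp [Fin.sum_univ_three] at hg
    have g0 : g 0 = 0 := by
      have h := congrArg (N ∘ N) hg
      simpa [h3, h2] using h
    have g1 : g 1 = 0 := by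
      have h := congrArg N hg
      simpa [g0, h3, h2] using h
    have g2 : g 2 = 0 := by simpa [g0, g1, h2] using hg
    intro i
    fin_cases i <;> assumption
  let B := Module.Basis.mk hli (fun v _ => by
    obtain ⟨a, b, c, rfl⟩ := hspan v
    refine add_mem (add_mem (Submodule.smul_mem _ _ ?_) (Submodule.smul_mem _ _ ?_))
      (Submodule.smul_mem _ _ ?_)
    · exact Submodule.subset_span ⟨0, rfl⟩
    · exact Submodule.subset_span ⟨1, rfl⟩
    · exact Submodule.subset_span ⟨2, rfl⟩)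
  have hB0 : B 0 = e := by simp [B]
  have hB1 : B 1 = N e := by simp [B]
  have hB2 : B 2 = N (N e) := by simp [B]
  obtain ⟨f, hf⟩ : ∃ f : Fin 3 → V →ₗ[ZMod p] ZMod p, ∀ i v, f i v = B.repr v i :=
    ⟨fun i => B.coord i, fun i v => rfl⟩
  have hfe : ∀ i j, f i (B j) = if j = i then 1 else 0 := fun i j => by
    rw [hf, B.repr_self, Finsupp.single_apply]
  have fe0 : f 0 e = 1 := by rw [← hB0, hfe]; simp
  have fe1 : f 1 e = 0 := by rw [← hB0, hfe]; simp
  have fe2 : f 2 e = 0 := by rw [← hB0, hfe]; simp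
  have fe3 : f 0 (N e) = 0 := by rw [← hB1, hfe]; simp
  have fe4 : f 1 (N e) = 1 := by rw [← hB1, hfe]; simp
  have fe5 : f 2 (N e) = 0 := by rw [← hB1, hfe]; simp
  have fe6 : f 0 (N (N e)) = 0 := by rw [← hB2, hfe]; simp
  have fe7 : f 1 (N (N e)) = 0 := by rw [← hB2, hfe]; simp
  have fe8 : f 2 (N (N e)) = 1 := by rw [← hB2, hfe]; simp
  have hfN : ∀ v, f 0 (N v) = 0 ∧ f 1 (N v) = f 0 v ∧ f 2 (N v) = f 1 v := by
    intro v
    obtain ⟨a, c, d, rfl⟩ := hspan v
    simp [map_add, map_smul, h3, fe0, fe1, fe2, fe3, fe4, fe5, fe6, fe7, fe8]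
  obtain ⟨c, hc⟩ : ∃ c : ZMod p, logX ρ x e = -N e + c • N (N e) := by
    refine ⟨f 0 (aeval N Q e), ?_⟩
    obtain ⟨a, b', d, habd⟩ := hspan (aeval N Q e)
    rw [hQ, LinearMap.add_apply, LinearMap.neg_apply, sq, Module.End.mul_apply, Module.End.mul_apply,
      habd]
    simp [h3, fe0, fe3, fe6]
  have hcN : ∀ v, N (aeval N Q v) = aeval N Q (N v) := fun v =>
    LinearMap.congr_fun (commute_aeval N Q).eq v
  have hL1 : logX ρ x (N e) = -N (N e) := by
    rw [hQ, LinearMap.add_apply, LinearMap.neg_apply, sq, Module.End.mul_apply, Module.End.mul_apply,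
      hcN, hcN, h3, map_zero, add_zero]
  have hL2 : logX ρ x (N (N e)) = 0 := by
    rw [hQ, LinearMap.add_apply, LinearMap.neg_apply, sq, Module.End.mul_apply, Module.End.mul_apply,
      hcN, hcN, h3, neg_zero, map_zero, map_zero, add_zero]
  have hkey : br N (br N Z) = logX ρ x * (ρ x * ρ x) := by
    rw [← hZ, mul_assoc, show ρ x⁻¹ * ρ x⁻¹ * (ρ x * ρ x) = ρ x⁻¹ * (ρ x⁻¹ * ρ x) * ρ x by
      simp only [mul_assoc], ← map_mul ρ x⁻¹ x, inv_mul_cancel, map_one, mul_one, ← map_mul,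
      inv_mul_cancel, map_one, mul_one]
  have hx' : ρ x = 1 + N := by rw [hN]; abel
  have e0 := LinearMap.congr_fun hkey e
  have e1 := LinearMap.congr_fun hkey (N e)
  rw [hx'] at e0 e1
  simp only [br, LinearMap.sub_apply, Module.End.mul_apply, LinearMap.add_apply, Module.End.one_apply,
    map_add, map_sub, h3, map_zero, add_zero, hc, hL1, hL2, neg_zero] at e0 e1
  have a00 := congrArg (f 0) e0
  have a01 := congrArg (f 1) e0
  have a12 := congrArg (f 2) e1
  simp only [map_add, map_sub, map_neg, map_smul, smul_eq_mul, map_zero, (hfN _).1, (hfN _).2.1,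
    (hfN _).2.2, sub_zero, zero_sub, add_zero, zero_add, mul_zero, neg_zero] at a00 a01 a12
  simp only [fe0] at a01 a12
  rw [hb, LinearMap.trace_eq_matrix_trace (ZMod p) B, Matrix.trace, Fin.sum_univ_three]
  simp only [Matrix.diag, LinearMap.toMatrix_apply]
  rw [← hf, ← hf, ← hf]
  simp only [Module.End.mul_apply, hB0, hB1, hB2, hc,
    hL1, hL2, map_zero, map_add, map_neg, map_smul, smul_eq_mul, add_zero]
  have h5 : (2 : ZMod p) ≠ 0 := fun h2' => by
    have h2'' : ((2 : ℕ) : ZMod p) = 0 := by exact_mod_cast h2'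
    have := Nat.le_of_dvd two_pos ((ZMod.natCast_eq_zero_iff _ _).1 h2'')
    omega
  intro h
  exact h5 (by linear_combination -h + c * a00 + a01 + a12)

/-- **Small nilpotency.** -/
theorem card_sylow_le_of_nilpotent (hp7 : 7 ≤ p) {x : G} (hx : orderOf x = p) (P : Sylow p G)
    (hP : (P : Subgroup G) = Subgroup.zpowers x)
    (hG : ∀ K : Subgroup G, K.Normal → x ∉ K → ∀ k ∈ K, Commute x k) (ρ : G →* Module.End (ZMod p) V) {r : ℕ}
    (hr : (ρ x - 1) ^ r = 0) (hrp : 2 * r ≤ p) (hρx : ρ x ≠ 1) :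
    Nat.card (Sylow p G) ≤ p + 1 := by
  have hsq : ¬ p ^ 2 ∣ Nat.card G := fun hd => by
    have h1 := (hp.out.pow_dvd_iff_le_factorization Nat.card_pos.ne').1 hd
    have h2 : Nat.card (P : Subgroup G) = p := by rw [hP, Nat.card_zpowers, hx]
    rw [P.card_eq_multiplicity] at h2
    have h3 := Nat.pow_le_pow_right hp.out.pos h1
    rw [h2] at h3
    nlinarith [hp.out.two_le]
  obtain ⟨Z, φ, hZ, hφU, hφL⟩ := exists_log_data (by omega) ρ hr (by omega) hρx
  obtain ⟨L, hLdef⟩ : ∃ L, L = logX ρ x := ⟨_, rfl⟩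
  rw [← hLdef] at hZ hφL
  have hUL : (cj ρ x - 1) L = 0 := hLdef ▸ cj_sub_logX ρ x
  have hL0 : L ≠ 0 := fun h => by rw [h, map_zero] at hφL; exact zero_ne_one hφL
  obtain ⟨Z', hZ', hW, -⟩ := exists_weight hx hsq hZ hUL hL0
    (fun g a ha hg => by rw [hLdef]; exact cj_logX_eq ρ hx ha hg)
  obtain ⟨ε, hε, hN, hεZ, hεM⟩ := exists_projection hx hsq hZ' hUL hW φ hφU hφL
  obtain ⟨η, w, -, hηg, -, hηw, -, -, hηM, hw2, hw3⟩ :=
    exists_idem hx hsq (cj_pow_eq_zero ρ hr hrp) hε hN hεZ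
      (fun A => mem_span3.1 (hεM A)) hZ' hUL hL0
  let W : Submodule (ZMod p) (Module.End (ZMod p) V) := LinearMap.eqLocus η 1
  have hWmem : ∀ v, v ∈ W ↔ η v = v := fun v => Iff.rfl
  have hinv : ∀ g, ∀ v ∈ W, cj ρ g v ∈ W := fun g v hv => by
    rw [hWmem] at hv ⊢
    rw [← Module.End.mul_apply, (hηg g).eq, Module.End.mul_apply, hv]
  let ρ' : G →* Module.End (ZMod p) W :=
    { toFun := fun g => (cj ρ g).restrict (hinv g)
      map_one' := LinearMap.ext fun v => Subtype.ext (by simp)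
      map_mul' := fun g h => LinearMap.ext fun v => Subtype.ext (by simp) }
  have hρ' : ∀ g (v : W), ((ρ' g v : W) : Module.End (ZMod p) V) = cj ρ g v := fun g v => rfl
  have hsub : ∀ v : W, (((ρ' x - 1) v : W) : Module.End (ZMod p) V) = (cj ρ x - 1) v := fun v => by
    rw [LinearMap.sub_apply, LinearMap.sub_apply, Module.End.one_apply, AddSubgroupClass.coe_sub, hρ',
      Module.End.one_apply]
  refine card_sylow_le_of_three hp7 hx P hP hG ρ' ⟨w, hηw⟩ ?_ ?_ fun v => ?_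
  · intro h
    have h' := congrArg Subtype.val h
    rw [hsub, hsub] at h'
    exact hw2 h'
  · exact Subtype.ext (by rw [hsub, hsub, hsub]; exact hw3)
  · obtain ⟨a, b, c, habc⟩ := hηM v
    refine ⟨a, b, c, Subtype.ext ?_⟩
    simp only [Submodule.coe_add, Submodule.coe_smul, hsub]
    rw [← habc]
    exact ((hWmem _).1 v.2).symm

end CfsgLib.GreenThree
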