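import Cfsg.Agent.GreenThree.End
import Mathlib.Algebra.CharP.Lemmas
import Mathlib.LinearAlgebra.Dual.Lemmas
import Mathlib.LinearAlgebra.Trace
import Mathlib.Algebra.Module.ZMod

/-!
# Modules over an arbitrary field of characteristic `p`

A module over any field of characteristic `p` gives finite `ZMod p`-modules by spanning orbits.  For a
self-dual module on which `x` is a single Jordan block of size `n = (p + 1) / 2` the skew operators
satisfy `U ^ (p - 1) = 0` and contain a vector of nonzero trace norm above `log x`.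
-/

set_option autoImplicit false
set_option linter.unusedSectionVars false
set_option linter.style.haveILetI false

namespace CfsgLib.GreenThree

open Finset CfsgLib.SmallDegree Polynomial
open scoped Classical

universe u v w

variable {p : ℕ} [hp : Fact p.Prime] {G : Type u} [Group G] [Finite G]

section Zmod

variable {A : Type v} [AddCommGroup A] [Module (ZMod p) A]

/-- An additive action as a linear action over `ZMod p`. -/
def linearModel (φ : G →* AddMonoid.End A) : G →* Module.End (ZMod p) A where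
  toFun g := AddMonoidHom.toZModLinearMap p (φ g)
  map_one' := LinearMap.ext fun a => by rw [map_one]; rfl
  map_mul' g h := LinearMap.ext fun a => by rw [map_mul]; rfl

theorem linearModel_apply (φ : G →* AddMonoid.End A) (g : G) (a : A) : linearModel (p := p) φ g a = φ g a :=
  rfl

theorem val_smul (c : ZMod p) (a : A) : c.val • a = c • a := by
  rw [← Nat.cast_smul_eq_nsmul (ZMod p), ZMod.natCast_zmod_val]

end Zmod

variable {k : Type v} [Field k] [CharP k p] {V : Type w} [AddCommGroup V] [Module k V]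

theorem zmod_smul_zero (k : Type v) [Field k] [CharP k p] {V : Type w} [AddCommGroup V] [Module k V]
    (v : V) : p • v = 0 := by
  rw [← Nat.cast_smul_eq_nsmul k, CharP.cast_eq_zero, zero_smul]

/-- The linear maps of a `k`-space as additive maps. -/
def additive (ρ : G →* Module.End k V) : G →* AddMonoid.End V where
  toFun g := (ρ g).toAddMonoidHom
  map_one' := AddMonoidHom.ext fun v => by show ρ 1 v = v; simp
  map_mul' g h := AddMonoidHom.ext fun v => by show ρ (g * h) v = ρ g (ρ h v); simp

/-- **Small nilpotency over any field.** -/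
theorem card_sylow_le_of_field (hp7 : 7 ≤ p) {x : G} (hx : orderOf x = p) (P : Sylow p G)
    (hP : (P : Subgroup G) = Subgroup.zpowers x)
    (hG : ∀ K : Subgroup G, K.Normal → x ∉ K → ∀ k ∈ K, Commute x k) (ρ : G →* Module.End k V) {r : ℕ}
    (hr : (ρ x - 1) ^ r = 0) (hrp : 2 * r ≤ p) (hρx : ρ x ≠ 1) :
    Nat.card (Sylow p G) ≤ p + 1 := by
  letI : Module (ZMod p) V := AddCommGroup.zmodModule (n := p) (G := V) (fun v => zmod_smul_zero k v)
  obtain ⟨v₀, hv₀⟩ : ∃ v, ρ x v ≠ v := by
    by_contra hall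
    push Not at hall
    exact hρx (LinearMap.ext hall)
  obtain ⟨φ, hφ⟩ : ∃ φ : G →* Module.End (ZMod p) V, φ = linearModel (additive ρ) := ⟨_, rfl⟩
  have hφa : ∀ g v, φ g v = ρ g v := fun g v => by rw [hφ]; rfl
  obtain ⟨W, hW⟩ : ∃ W : Submodule (ZMod p) V, Submodule.span (ZMod p) (Set.range fun g => ρ g v₀) = W :=
    ⟨_, rfl⟩
  haveI : FiniteDimensional (ZMod p) W := by
    rw [← hW]; exact FiniteDimensional.span_of_finite (ZMod p) (Set.finite_range _)
  have hinv : ∀ g, ∀ v ∈ W, φ g v ∈ W := by
    intro g v hv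
    have h : W.map (φ g) ≤ W := by
      conv_lhs => rw [← hW]
      rw [Submodule.map_span_le]
      rintro _ ⟨h, rfl⟩
      rw [hφa, ← Module.End.mul_apply, ← map_mul, ← hW]
      exact Submodule.subset_span ⟨g * h, rfl⟩
    exact h (Submodule.mem_map_of_mem hv)
  let ρ' : G →* Module.End (ZMod p) W :=
    { toFun := fun g => (φ g).restrict (hinv g)
      map_one' := LinearMap.ext fun v => Subtype.ext (by simp)
      map_mul' := fun g h => LinearMap.ext fun v => Subtype.ext (by simp) }
  have hρ' : ∀ g (v : W), ((ρ' g v : W) : V) = ρ g v := fun g v => hφa g v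
  have hmem : v₀ ∈ W := by
    rw [← hW]; exact Submodule.subset_span ⟨1, by simp⟩
  refine card_sylow_le_of_nilpotent hp7 hx P hP hG ρ' (r := r) ?_ hrp fun h => hv₀ ?_
  · refine LinearMap.ext fun v => Subtype.ext ?_
    have key : ∀ (j : ℕ) (v : W), ((((ρ' x - 1) ^ j) v : W) : V) = ((ρ x - 1) ^ j) (v : V) := by
      intro j
      induction j with
      | zero => simp
      | succ j ih =>
        intro v
        rw [pow_succ, pow_succ, Module.End.mul_apply, Module.End.mul_apply, ih]
        congr 1
        rw [LinearMap.sub_apply, LinearMap.sub_apply, Module.End.one_apply, Module.End.one_apply,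
          AddSubgroupClass.coe_sub, hρ']
    rw [key, hr]
    simp
  · have h' := congrArg Subtype.val (LinearMap.congr_fun h ⟨v₀, hmem⟩)
    rwa [hρ', Module.End.one_apply] at h'

section Skew

variable [FiniteDimensional k V] (ρ : G →* Module.End k V)

/-- Conjugation on operators. -/
def cjF : G →* Module.End k (Module.End k V) where
  toFun g := LinearMap.mulLeft k (ρ g) * LinearMap.mulRight k (ρ g⁻¹)
  map_one' := LinearMap.ext fun A => by simp
  map_mul' g h := LinearMap.ext fun A => by simp [mul_assoc]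

theorem cjF_apply (g : G) (A : Module.End k V) : cjF ρ g A = ρ g * A * ρ g⁻¹ := by
  simp [cjF, mul_assoc]

theorem cjF_sub_apply (x : G) (A : Module.End k V) :
    (cjF ρ x - 1) A = br (ρ x - 1) A * ρ x⁻¹ := by
  rw [LinearMap.sub_apply, cjF_apply, Module.End.one_apply, br]
  simp only [sub_mul, mul_sub, one_mul, mul_one, sub_sub_sub_cancel_right]
  rw [mul_assoc A (ρ x) (ρ x⁻¹), ← map_mul, mul_inv_cancel, map_one, mul_one]

theorem cjF_sub_sub_apply (x : G) (A : Module.End k V) :
    (cjF ρ x - 1) ((cjF ρ x - 1) A) = br (ρ x - 1) (br (ρ x - 1) A) * (ρ x⁻¹ * ρ x⁻¹) := by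
  have hc : Commute (ρ x - 1) (ρ x⁻¹) :=
    ((Commute.refl x).inv_right.map ρ).sub_left (Commute.one_left _)
  rw [cjF_sub_apply, cjF_sub_apply, br_mul_right hc, mul_assoc]

/-- The logarithm of `ρ x` up to sign. -/
noncomputable def logF (p : ℕ) [Fact p.Prime] [CharP k p] (x : G) : Module.End k V :=
  ∑ j : ZMod p, (ZMod.castHom (dvd_refl p) k j⁻¹) • ρ x ^ j.val

theorem commute_logF (x : G) : Commute (ρ x) (logF ρ p x) :=
  Commute.sum_right _ _ _ fun j _ => ((Commute.refl (ρ x)).pow_right _).smul_right _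

theorem cjF_logF {x : G} (hx : orderOf x = p) {g : G} {a : ZMod p} (ha : a ≠ 0)
    (hg : g * x * g⁻¹ = x ^ a.val) :
    cjF ρ g (logF ρ p x) = ZMod.castHom (dvd_refl p) k a • logF ρ p x := by
  rw [cjF_apply, logF, mul_sum, sum_mul, smul_sum]
  refine Fintype.sum_equiv (Equiv.mulLeft₀ a ha) _ _ fun j => ?_
  rw [mul_smul_comm, smul_mul_assoc, ← map_pow, ← map_mul, ← map_mul, ← conj_pow, hg, smul_smul,
    ← map_mul (ZMod.castHom (dvd_refl p) k), Equiv.mulLeft₀_apply, mul_inv, ← mul_assoc,
    mul_inv_cancel₀ ha, one_mul, ← map_pow, ← pow_mul, ← pow_mod_orderOf x (a.val * j.val), hx,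
    ← ZMod.val_mul]

theorem cjF_sub_logF (x : G) : (cjF ρ x - 1) (logF ρ p x) = 0 := by
  rw [LinearMap.sub_apply, cjF_apply, Module.End.one_apply, sub_eq_zero, (commute_logF ρ x).eq,
    mul_assoc, ← map_mul, mul_inv_cancel, map_one, mul_one]

theorem exists_logF_eq (hp3 : 3 ≤ p) (x : G) :
    ∃ Q : k[X], logF ρ p x = aeval (ρ x - 1) (-X + X ^ 2 * Q) := by
  obtain ⟨N, hN⟩ : ∃ N, N = ρ x - 1 := ⟨_, rfl⟩
  have hm : ∀ m : ℕ, ∃ Q : k[X], (1 + X : k[X]) ^ m = 1 + (m : k[X]) * X + X ^ 2 * Q := by
    intro m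
    induction m with
    | zero => exact ⟨0, by simp⟩
    | succ m ih =>
      obtain ⟨Q, hQ⟩ := ih
      exact ⟨Q + X * Q + (m : k[X]), by rw [pow_succ', hQ]; push_cast; ring⟩
  choose Q hQ using hm
  obtain ⟨f, hf⟩ : ∃ f : ZMod p →+* k, f = ZMod.castHom (dvd_refl p) k := ⟨_, rfl⟩
  refine ⟨∑ j : ZMod p, Polynomial.C (f j⁻¹) * Q j.val, ?_⟩
  have hx : ρ x = aeval (ρ x - 1) (1 + X : k[X]) := by simp
  have h0 : ∑ j : ZMod p, j⁻¹ = 0 := by
    rw [Fintype.sum_equiv (Equiv.inv (ZMod p)) (fun j => j⁻¹) (fun j => j) (fun j => rfl)]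
    simpa using FiniteField.sum_pow_lt_card_sub_one (K := ZMod p) 1 (by rw [ZMod.card]; omega)
  have h1 : ∑ j : ZMod p, j⁻¹ * j = -1 := by
    rw [← Finset.add_sum_erase _ _ (Finset.mem_univ (0 : ZMod p)), mul_zero, zero_add,
      Finset.sum_congr rfl fun j hj => inv_mul_cancel₀ (Finset.ne_of_mem_erase hj), Finset.sum_const,
      Finset.card_erase_of_mem (Finset.mem_univ _), Finset.card_univ, ZMod.card, nsmul_eq_mul, mul_one,
      Nat.cast_sub hp.out.one_le]
    simp
  have key : ∑ j : ZMod p, Polynomial.C (f j⁻¹) * (1 + X : k[X]) ^ j.val =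
      -X + X ^ 2 * ∑ j : ZMod p, Polynomial.C (f j⁻¹) * Q j.val := by
    have e : ∀ j : ZMod p, Polynomial.C (f j⁻¹) * (1 + X : k[X]) ^ j.val =
        Polynomial.C (f j⁻¹) + Polynomial.C (f (j⁻¹ * j)) * X +
          X ^ 2 * (Polynomial.C (f j⁻¹) * Q j.val) := fun j => by
      rw [hQ, show ((j.val : ℕ) : k[X]) = Polynomial.C (f j) by
        rw [← map_natCast Polynomial.C, ← map_natCast f, ZMod.natCast_zmod_val], map_mul f,
        map_mul Polynomial.C]
      ring
    rw [sum_congr rfl fun j _ => e j, sum_add_distrib, sum_add_distrib, ← mul_sum, ← map_sum, ← map_sum,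
      h0, map_zero, map_zero, zero_add, ← sum_mul, ← map_sum, ← map_sum, h1, map_neg, map_neg, map_one,
      map_one, neg_one_mul]
  rw [← key, map_sum]
  refine sum_congr rfl fun j _ => ?_
  rw [map_mul, map_pow, ← hx, aeval_C, hf, ← Algebra.smul_def]

/-- **A single block in a self-dual module**: at most `p + 1` Sylow subgroups. -/
theorem card_sylow_le_of_block (hp7 : 7 ≤ p) {x : G} (hx : orderOf x = p) (P : Sylow p G)
    (hP : (P : Subgroup G) = Subgroup.zpowers x)
    (hG : ∀ K : Subgroup G, K.Normal → x ∉ K → ∀ k ∈ K, Commute x k) {n : ℕ} (hn : 2 * n = p + 1)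
    (hr : (ρ x - 1) ^ n = 0) {e : V}
    (hspan : ∀ v, ∃ a : k, ∃ w, v = a • e + (ρ x - 1) w)
    (hne : ((ρ x - 1) ^ (n - 1)) e ≠ 0)
    (B : LinearMap.BilinForm k V) (hBs : ∀ v w, B v w = B w v)
    (hBi : ∀ g v w, B (ρ g v) (ρ g w) = B v w) (hBn : ∀ v, (∀ w, B v w = 0) → v = 0)
    (hneven : n % 2 = 1) :
    Nat.card (Sylow p G) ≤ p + 1 := by
  obtain ⟨N, hN⟩ : ∃ N, N = ρ x - 1 := ⟨_, rfl⟩
  rw [← hN] at hr hspan hne
  have h2k : (2 : k) ≠ 0 := fun h2 => by
    have h2' : ((2 : ℕ) : k) = 0 := by exact_mod_cast h2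
    rw [CharP.cast_eq_zero_iff k p] at h2'
    have := Nat.le_of_dvd two_pos h2'
    omega
  have hx' : ρ x = 1 + N := by rw [hN]; abel
  obtain ⟨xi, hxi⟩ : ∃ xi, xi = ρ x⁻¹ := ⟨_, rfl⟩
  have hxx : ρ x * xi = 1 := by rw [hxi, ← map_mul, mul_inv_cancel, map_one]
  have hNxi : Commute N xi := by
    rw [hN, hxi]; exact ((Commute.refl x).inv_right.map ρ).sub_left (Commute.one_left _)
  have hxi1 : xi - 1 = -(N * xi) := by
    rw [hN, sub_mul, one_mul, hxx]; abel
  have hNn : N ^ (n - 1) * xi = N ^ (n - 1) := by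
    have h1 : N ^ (n - 1) * (xi - 1) = 0 := by
      rw [hxi1, mul_neg, ← mul_assoc, ← pow_succ, show n - 1 + 1 = n by omega, hr, zero_mul, neg_zero]
    rwa [mul_sub, mul_one, sub_eq_zero] at h1
  -- the adjoint
  let e₀ : V ≃ₗ[k] Module.Dual k V := LinearEquiv.ofBijective B
    ⟨LinearMap.ker_eq_bot.1 (LinearMap.ker_eq_bot'.2 fun v hv => hBn v fun w => by rw [hv]; rfl),
      by
        have hinj : Function.Injective B :=
          LinearMap.ker_eq_bot.1 (LinearMap.ker_eq_bot'.2 fun v hv => hBn v fun w => by rw [hv]; rfl)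
        exact (LinearMap.injective_iff_surjective_of_finrank_eq_finrank
          (Subspace.dual_finrank_eq).symm).1 hinj⟩
  obtain ⟨adj, hadj0⟩ : ∃ adj : Module.End k V → Module.End k V,
      ∀ A, adj A = e₀.symm.toLinearMap ∘ₗ A.dualMap ∘ₗ e₀.toLinearMap := ⟨_, fun _ => rfl⟩
  have hadj : ∀ A v w, B (adj A v) w = B v (A w) := by
    intro A v w
    rw [hadj0]
    show e₀ (e₀.symm (A.dualMap (e₀ v))) w = _
    rw [e₀.apply_symm_apply]
    rfl
  have huniq : ∀ A A' : Module.End k V, (∀ v w, B (A v) w = B (A' v) w) → A = A' := fun A A' h =>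
    LinearMap.ext fun v => sub_eq_zero.1 (hBn _ fun w => by
      rw [map_sub, LinearMap.sub_apply, h, sub_self])
  have htradj : ∀ A, LinearMap.trace k V (adj A) = LinearMap.trace k V A := fun A => by
    rw [hadj0]
    have h1 : e₀.symm.toLinearMap ∘ₗ A.dualMap ∘ₗ e₀.toLinearMap = e₀.symm.conj A.dualMap := by
      rw [LinearEquiv.conj_apply, LinearEquiv.symm_symm]; rfl
    rw [h1, LinearMap.trace_conj']
    exact LinearMap.trace_transpose' (R := k) (M := V) A
  have hinvB : ∀ g v w, B (ρ g v) w = B v (ρ g⁻¹ w) := fun g v w => by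
    rw [← hBi g v (ρ g⁻¹ w), ← Module.End.mul_apply (ρ g), ← map_mul, mul_inv_cancel, map_one,
      Module.End.one_apply]
  -- skew operators
  let Skew : Module.End k V → Prop := fun K => ∀ v w, B (K v) w + B v (K w) = 0
  have hskew_cj : ∀ g K, Skew K → Skew (cjF ρ g K) := by
    intro g K hK v w
    rw [cjF_apply, Module.End.mul_apply, Module.End.mul_apply, Module.End.mul_apply,
      Module.End.mul_apply, hinvB, hBs v, hinvB, hBs (K (ρ g⁻¹ w))]
    exact hK _ _
  obtain ⟨L, hLdef⟩ : ∃ L, L = logF ρ p x := ⟨_, rfl⟩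
  have hLskew : Skew L := by
    intro v w
    have hneg : ∀ j : ZMod p, ρ (x ^ j.val)⁻¹ = ρ x ^ (-j).val := fun j => by
      rw [← map_pow]
      congr 1
      rw [inv_eq_iff_mul_eq_one, ← pow_add, ← pow_mod_orderOf, hx, ← ZMod.val_add, add_neg_cancel,
        ZMod.val_zero, pow_zero]
    simp only [hLdef, logF, LinearMap.sum_apply, LinearMap.smul_apply, map_sum, map_smul,
      LinearMap.sum_apply, LinearMap.smul_apply, smul_eq_mul]
    have e2 : ∀ j : ZMod p, B ((ρ x ^ j.val) v) w = B v ((ρ x ^ (-j).val) w) := fun j => by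
      rw [← hneg, ← map_pow, hinvB]
    simp only [e2]
    rw [Fintype.sum_equiv (Equiv.neg (ZMod p))
      (fun j => (ZMod.castHom (dvd_refl p) k) j⁻¹ * B v ((ρ x ^ (-j).val) w))
      (fun j => -((ZMod.castHom (dvd_refl p) k) j⁻¹ * B v ((ρ x ^ j.val) w))) (fun j => by
        rw [Equiv.neg_apply, inv_neg, map_neg, neg_mul, neg_neg]), sum_neg_distrib, neg_add_cancel]
  -- the vector
  haveI hk : CharP k p := inferInstance
  have hN0 : N ≠ 0 := fun h => hne (by rw [h, zero_pow (by omega), LinearMap.zero_apply])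
  obtain ⟨r, q, Y, hr2, hr0, hr1, hqq, -, -, hNq, hq0, hY, htr, htr2⟩ :=
    exists_block (P := (1 : Module.End k V)) ⟨n, hr⟩ (mul_one 1) (Commute.one_right N)
      (by rwa [mul_one])
  rw [mul_one] at hr0 hr1
  have hrn : r = n := by
    rcases lt_trichotomy r n with h | h | h
    · exact absurd (by rw [pow_eq_zero_of_le (by omega : r ≤ n - 1) hr0, LinearMap.zero_apply]) hne
    · exact h
    · exact absurd (pow_eq_zero_of_le (by omega : n ≤ r - 1) hr) hr1
  -- a single block: the kernel of `N` is a line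
  obtain ⟨f, hf⟩ : ∃ f, f = (N ^ (n - 1)) e := ⟨_, rfl⟩
  rw [← hf] at hne
  have hrange : ∀ v, ∃ a : k, (N ^ (n - 1)) v = a • f := fun v => by
    obtain ⟨a, w, rfl⟩ := hspan v
    refine ⟨a, ?_⟩
    rw [map_add, map_smul, ← hf, ← Module.End.mul_apply, ← pow_succ, show n - 1 + 1 = n by omega, hr,
      LinearMap.zero_apply, add_zero]
  have hq1 : q = 1 := by
    have hcq : ∀ j v, (N ^ j) (q v) = q ((N ^ j) v) := fun j v =>
      LinearMap.congr_fun (hNq.pow_left j).eq v
    have h1 : ∀ d, ∀ v, (∀ i, q ((N ^ i) v) = 0) → (N ^ d) v = 0 ∨ q f = 0 := by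
      intro d v hv
      by_contra hh
      push Not at hh
      have key : ∀ i, i ≤ n → ∀ v, (N ^ i) v = 0 →
          v = 0 ∨ ∃ j, ∃ a : k, a ≠ 0 ∧ (N ^ j) v = a • f := by
        intro i
        induction i with
        | zero => intro _ v hv; left; simpa using hv
        | succ i ih =>
          intro hi v hv
          rcases ih (by omega) (N v) (by rw [← Module.End.mul_apply, ← pow_succ]; exact hv) with h | h
          · by_cases h0 : v = 0
            · exact Or.inl h0
            · refine Or.inr ⟨0, ?_⟩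
              -- `v ∈ ker N` is a multiple of `f`
              have : ∀ i, i ≤ n → ∀ v, N v = 0 → (∃ w, v = (N ^ i) w) → i < n - 1 →
                  ∃ w, v = (N ^ (i + 1)) w := by
                rintro i _ v hv ⟨w, rfl⟩ hi2
                obtain ⟨a, w', rfl⟩ := hspan w
                have ha : a = 0 := by
                  have hh1 := congrArg (N ^ (n - 2 - i)) hv
                  rw [map_zero, ← Module.End.mul_apply, ← pow_succ, ← Module.End.mul_apply, ← pow_add,
                    show n - 2 - i + 1 + i = n - 1 by omega, map_add, map_smul, ← hf,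
                    ← Module.End.mul_apply, ← pow_succ, show n - 1 + 1 = n by omega, hr,
                    LinearMap.zero_apply, add_zero] at hh1
                  exact (smul_eq_zero.1 hh1).resolve_right hne
                refine ⟨w', ?_⟩
                rw [ha, zero_smul, zero_add, ← Module.End.mul_apply, ← pow_succ]
              have htop : ∀ i, i ≤ n - 1 → ∃ w, v = (N ^ i) w := by
                intro i
                induction i with
                | zero => intro _; exact ⟨v, by simp⟩
                | succ i ih2 => intro hi2; exact this i (by omega) v h (ih2 (by omega)) (by omega)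
              obtain ⟨w, rfl⟩ := htop (n - 1) le_rfl
              obtain ⟨a, ha⟩ := hrange w
              exact ⟨a, fun h' => h0 (by rw [ha, h', zero_smul]), by rw [pow_zero, Module.End.one_apply, ha]⟩
          · obtain ⟨j, a, ha, hj⟩ := h
            exact Or.inr ⟨j + 1, a, ha, by rw [pow_succ, Module.End.mul_apply]; exact hj⟩
      rcases key n le_rfl v (by rw [hr, LinearMap.zero_apply]) with h | ⟨j, a, ha, hj⟩
      · exact hh.1 (by rw [h, map_zero])
      · have := hv j
        rw [hj, map_smul] at this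
        exact hh.2 ((smul_eq_zero.1 this).resolve_left ha)
    have hqf : q f ≠ 0 := fun h0 => hq0 <| LinearMap.ext fun v => by
      -- otherwise the range of `q` misses the socle
      by_contra hv
      have hfix : ∀ i, q ((N ^ i) (q v)) = (N ^ i) (q v) := fun i => by
        rw [hcq, ← Module.End.mul_apply q q, hqq]
      obtain ⟨j, hj⟩ : ∃ j, (N ^ j) (q v) ≠ 0 ∧ N ((N ^ j) (q v)) = 0 := by
        by_contra hall
        push Not at hall
        have h5 : ∀ j, (N ^ j) (q v) ≠ 0 := by
          intro j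
          induction j with
          | zero => simpa using hv
          | succ j ih => rw [pow_succ', Module.End.mul_apply]; exact hall j ih
        exact h5 n (by rw [hr, LinearMap.zero_apply])
      -- it is a multiple of `f`
      have hline : ∀ u, N u = 0 → ∃ a : k, u = a • f := by
        intro u hu
        have htop : ∀ i, i ≤ n - 1 → ∃ w, u = (N ^ i) w := by
          intro i
          induction i with
          | zero => intro _; exact ⟨u, by simp⟩
          | succ i ih2 =>
            intro hi2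
            obtain ⟨w, rfl⟩ := ih2 (by omega)
            obtain ⟨a, w', rfl⟩ := hspan w
            have ha : a = 0 := by
              have hh1 := congrArg (N ^ (n - 2 - i)) hu
              rw [map_zero, ← Module.End.mul_apply, ← pow_succ, ← Module.End.mul_apply, ← pow_add,
                show n - 2 - i + 1 + i = n - 1 by omega, map_add, map_smul, ← hf,
                ← Module.End.mul_apply, ← pow_succ, show n - 1 + 1 = n by omega, hr,
                LinearMap.zero_apply, add_zero] at hh1
              exact (smul_eq_zero.1 hh1).resolve_right hne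
            refine ⟨w', ?_⟩
            rw [ha, zero_smul, zero_add, ← Module.End.mul_apply, ← pow_succ]
        obtain ⟨w, rfl⟩ := htop (n - 1) le_rfl
        exact hrange w
      obtain ⟨a, ha⟩ := hline _ hj.2
      refine hj.1 ?_
      rw [← hfix j, ha, map_smul, h0, smul_zero]
    refine LinearMap.ext fun v => ?_
    have h := (h1 0 (v - q v) fun i => by
      rw [map_sub (N ^ i), hcq, map_sub q, ← Module.End.mul_apply q q, hqq, sub_self]).resolve_right hqf
    rw [pow_zero, Module.End.one_apply, sub_eq_zero] at h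
    rw [Module.End.one_apply, ← h]
  rw [hq1, mul_one] at hY
  obtain ⟨Q, hQ⟩ := exists_logF_eq ρ (p := p) (show 3 ≤ p by omega) x
  rw [← hN, ← hLdef] at hQ
  obtain ⟨Wt, hWt⟩ : ∃ Wt, Wt = aeval N ((-1 + X * Q) * (1 + X) ^ 2 : k[X]) := ⟨_, rfl⟩
  have hxa : ρ x * ρ x = aeval N ((1 + X) ^ 2 : k[X]) := by
    rw [hx', map_pow, map_add, map_one, aeval_X, sq]
  have hcw : Commute N Wt := by
    have h := (Commute.all X ((-1 + X * Q) * (1 + X) ^ 2 : k[X])).map (aeval N)
    rwa [aeval_X, ← hWt] at h
  obtain ⟨Z₀, hZ₀⟩ : ∃ Z₀, Z₀ = (-2 : k)⁻¹ • (Y * Wt) := ⟨_, rfl⟩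
  have hU2 : ∀ A, (cjF ρ x - 1) ((cjF ρ x - 1) A) = br N (br N A) * (xi * xi) := fun A => by
    rw [cjF_sub_sub_apply, hN, hxi]
  have hZ₀L : (cjF ρ x - 1) ((cjF ρ x - 1) Z₀) = L := by
    have h3 : br N (br N (Y * Wt)) = br N (br N Y) * Wt := by
      rw [br_mul_right hcw, br_mul_right hcw]
    rw [hZ₀, map_smul, map_smul, hU2, h3, hY, hWt, map_mul, ← hxa, mul_assoc (-(2 * N)),
      mul_assoc (aeval N (-1 + X * Q : k[X])), mul_assoc (ρ x) (ρ x), ← mul_assoc (ρ x) xi xi, hxx,
      one_mul, hxx, mul_one, inv_smul_eq_iff₀ (neg_ne_zero.2 h2k), hQ,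
      show (-X + X ^ 2 * Q : k[X]) = X * (-1 + X * Q) by ring, map_mul _ X, aeval_X, neg_mul,
      mul_assoc, two_mul, neg_smul, two_smul]
  have htr0 : LinearMap.trace k V (L * Z₀) ≠ 0 := by
    obtain ⟨R, hR⟩ : ∃ R : k[X], (-1 + X * Q) * (1 + X) ^ 2 * (-X + X ^ 2 * Q) = X + X ^ 2 * R :=
      ⟨2 + X - 2 * Q - 4 * X * Q - 2 * X ^ 2 * Q + X * Q * Q + 2 * X ^ 2 * Q * Q + X ^ 3 * Q * Q,
        by ring⟩
    have hWL : Wt * L = N + N ^ 2 * aeval N R := by
      rw [hWt, hQ, ← map_mul, hR, map_add, map_mul, map_pow, aeval_X]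
    rw [hZ₀, mul_smul_comm, map_smul, smul_eq_mul, LinearMap.trace_mul_comm, mul_assoc, hWL,
      LinearMap.trace_mul_comm, add_mul, map_add,
      htr2 (aeval N R) (by simpa using (Commute.all X R).map (aeval N)) (hrn ▸ hr), add_zero]
    refine mul_ne_zero (inv_ne_zero (neg_ne_zero.2 h2k)) ?_
    rw [htr, hrn]
    intro h
    have h6 := six_mul_sum_weight (k := k) n n
    rw [h, mul_zero] at h6
    have hz : (((n + 1) * n * (n - 1) : ℕ) : k) = 0 := by
      push_cast [Nat.cast_sub (show 1 ≤ n by omega)]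
      linear_combination -h6
    rw [CharP.cast_eq_zero_iff k p] at hz
    rcases hp.out.dvd_mul.1 hz with h' | h'
    · rcases hp.out.dvd_mul.1 h' with h'' | h''
      · exact absurd (Nat.le_of_dvd (by omega) h'') (by omega)
      · exact absurd (Nat.le_of_dvd (by omega) h'') (by omega)
    · exact absurd (Nat.le_of_dvd (by omega) h') (by omega)
  obtain ⟨Z, hZdef⟩ : ∃ Z, Z = (2 : k)⁻¹ • (Z₀ - adj Z₀) := ⟨_, rfl⟩
  have hadjU : ∀ A, adj ((cjF ρ x - 1) A) = (cjF ρ x - 1) (adj A) := fun A =>
    huniq _ _ fun v w => by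
      simp only [hadj, LinearMap.sub_apply, Module.End.one_apply, cjF_apply, map_sub,
        Module.End.mul_apply]
      congr 1
      rw [hinvB, hadj, hBs, hinvB, hBs]
  have hZskew : Skew Z := by
    intro v w
    simp only [hZdef, LinearMap.smul_apply, LinearMap.sub_apply, map_smul, map_sub, smul_eq_mul, hadj]
    rw [hBs v (adj Z₀ w), hadj, hBs w]
    ring
  have hadjL : adj L = -L := huniq _ _ fun v w => by
    rw [hadj, LinearMap.neg_apply, map_neg, LinearMap.neg_apply, eq_neg_iff_add_eq_zero, add_comm]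
    exact hLskew v w
  have hZL : (cjF ρ x - 1) ((cjF ρ x - 1) Z) = L := by
    rw [hZdef, map_smul, map_smul, map_sub, map_sub, hZ₀L, ← hadjU, ← hadjU, hZ₀L, hadjL,
      sub_neg_eq_add, ← two_smul k L, smul_smul, inv_mul_cancel₀ h2k, one_smul]
  have htrZ : LinearMap.trace k V (Z * L) ≠ 0 := by
    have h1 : LinearMap.trace k V (adj Z₀ * L) = -LinearMap.trace k V (Z₀ * L) := by
      have h2 : adj Z₀ * L = adj (-(L * Z₀)) := huniq _ _ fun v w => by
        rw [Module.End.mul_apply, hadj, hadj, LinearMap.neg_apply, Module.End.mul_apply, map_neg,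
          eq_neg_iff_add_eq_zero]
        exact hLskew v _
      rw [h2, htradj, map_neg, LinearMap.trace_mul_comm]
    rw [hZdef, smul_mul_assoc, map_smul, sub_mul, map_sub, h1, sub_neg_eq_add, ← two_mul, smul_eq_mul,
      ← mul_assoc, inv_mul_cancel₀ h2k, one_mul, LinearMap.trace_mul_comm]
    exact htr0
  -- nilpotency on skew operators
  have hUskew : ∀ K, Skew K → ((cjF ρ x - 1) ^ (p - 1)) K = 0 := by
    intro K hK
    obtain ⟨a, ha⟩ : ∃ a, a = LinearMap.mulLeft k N * LinearMap.mulRight k xi := ⟨_, rfl⟩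
    obtain ⟨b, hb⟩ : ∃ b, b = LinearMap.mulRight k (xi - 1) := ⟨_, rfl⟩
    have hsum : cjF ρ x - 1 = a + b := by
      refine LinearMap.ext fun A => ?_
      simp [ha, hb, hN, hxi, cjF_apply, sub_mul, mul_sub, mul_assoc]
    have hab : Commute a b := by
      rw [ha, hb]
      refine LinearMap.ext fun A => ?_
      simp [hxi, sub_mul, mul_sub, mul_assoc]
    rw [hsum, hab.add_pow, LinearMap.sum_apply]
    refine sum_eq_zero fun i hi => ?_
    rw [mem_range] at hi
    have hterm : (a ^ i * b ^ (p - 1 - i)) K = N ^ i * K * ((xi - 1) ^ (p - 1 - i) * xi ^ i) := by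
      rw [ha, hb, (LinearMap.commute_mulLeft_right _ _).mul_pow, LinearMap.pow_mulLeft,
        LinearMap.pow_mulRight, LinearMap.pow_mulRight]
      simp [mul_assoc]
    have hzero : (a ^ i * b ^ (p - 1 - i)) K = 0 := by
      rw [hterm]
      rcases lt_trichotomy i (n - 1) with h | h | h
      · rw [hxi1, neg_pow, hNxi.mul_pow, pow_eq_zero_of_le (by omega : n ≤ p - 1 - i) hr]
        simp
      · have hpm : (xi - 1) ^ (p - 1 - i) * xi ^ i = N ^ (n - 1) := by
          have hpow : ∀ j, N ^ (n - 1) * xi ^ j = N ^ (n - 1) := by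
            intro j
            induction j with
            | zero => simp
            | succ j ih => rw [pow_succ, ← mul_assoc, ih, hNn]
          rw [show p - 1 - i = n - 1 by omega, hxi1,
            (show Even (n - 1) from Nat.even_iff.2 (by omega)).neg_pow, hNxi.mul_pow, hpow, hpow]
        rw [hpm, h]
        refine LinearMap.ext fun v => ?_
        rw [Module.End.mul_apply, Module.End.mul_apply, LinearMap.zero_apply]
        obtain ⟨c, hc⟩ := hrange v
        obtain ⟨γ, hγ⟩ := hrange (K f)
        rw [hc, map_smul, map_smul, hγ]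
        -- the scalar vanishes
        have hsym : ∀ v w, B ((N ^ (n - 1)) v) w = B v ((N ^ (n - 1)) w) := fun v w => by
          have hN' : ∀ v w, B (N v) w = B v ((xi - 1) w) := fun v w => by
            rw [hN, hxi, LinearMap.sub_apply, LinearMap.sub_apply, Module.End.one_apply,
              Module.End.one_apply, map_sub, map_sub, LinearMap.sub_apply, hinvB]
          have hNj : ∀ j v w, B ((N ^ j) v) w = B v (((xi - 1) ^ j) w) := by
            intro j
            induction j with
            | zero => intro v w; simp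
            | succ j ih =>
              intro v w
              conv_rhs => rw [pow_succ', Module.End.mul_apply]
              rw [pow_succ, Module.End.mul_apply, ih, hN']
          have hpm' : (xi - 1) ^ (n - 1) = N ^ (n - 1) := by
            have hpow : ∀ j, N ^ (n - 1) * xi ^ j = N ^ (n - 1) := by
              intro j
              induction j with
              | zero => simp
              | succ j ih => rw [pow_succ, ← mul_assoc, ih, hNn]
            rw [hxi1, (show Even (n - 1) from Nat.even_iff.2 (by omega)).neg_pow, hNxi.mul_pow, hpow]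
          rw [hNj, hpm']
        have hfe : B f e ≠ 0 := fun h0 => hne (hBn f fun w => by
          obtain ⟨a', w', rfl⟩ := hspan w
          rw [map_add, map_smul, h0, smul_zero, zero_add, hf, hsym, ← Module.End.mul_apply, ← pow_succ,
            show n - 1 + 1 = n by omega, hr, LinearMap.zero_apply, map_zero])
        have hγ0 : γ = 0 := by
          have h1 := hsym (K f) e
          rw [hγ, ← hf, map_smul, LinearMap.smul_apply, smul_eq_mul] at h1
          have h2 := hK f f
          rw [hBs f (K f), ← two_mul] at h2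
          rw [(mul_eq_zero.1 h2).resolve_left h2k] at h1
          exact (mul_eq_zero.1 h1).resolve_right hfe
        rw [hγ0, zero_smul, smul_zero]
      · rw [pow_eq_zero_of_le (by omega : n ≤ i) hr]
        simp
    rw [← (Nat.cast_commute ((p - 1).choose i) _).eq, Module.End.mul_apply, hzero, map_zero]
  -- the finite module
  letI : Module (ZMod p) (Module.End k V) := AddCommGroup.zmodModule (n := p) (G := Module.End k V) (fun v => zmod_smul_zero k v)
  obtain ⟨φ, hφ⟩ : ∃ φ : G →* Module.End (ZMod p) (Module.End k V),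
      φ = linearModel (additive (cjF ρ)) := ⟨_, rfl⟩
  have hφa : ∀ g A, φ g A = cjF ρ g A := fun g A => by rw [hφ]; rfl
  obtain ⟨W, hW⟩ : ∃ W : Submodule (ZMod p) (Module.End k V),
      Submodule.span (ZMod p) (Set.range fun g => cjF ρ g Z) = W := ⟨_, rfl⟩
  haveI : FiniteDimensional (ZMod p) W := by
    rw [← hW]; exact FiniteDimensional.span_of_finite (ZMod p) (Set.finite_range _)
  have hinv : ∀ g, ∀ v ∈ W, φ g v ∈ W := by
    intro g v hv
    have h : W.map (φ g) ≤ W := by
      conv_lhs => rw [← hW]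
      rw [Submodule.map_span_le]
      rintro _ ⟨h, rfl⟩
      rw [hφa, ← Module.End.mul_apply, ← map_mul, ← hW]
      exact Submodule.subset_span ⟨g * h, rfl⟩
    exact h (Submodule.mem_map_of_mem hv)
  have hWskew : ∀ A ∈ W, Skew A := by
    intro A hA
    rw [← hW] at hA
    induction hA using Submodule.span_induction with
    | mem A hA => obtain ⟨g, rfl⟩ := hA; exact hskew_cj g Z hZskew
    | zero => intro v w; simp
    | add A A' _ _ h1 h2 =>
      intro v w
      simp only [LinearMap.add_apply, map_add]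
      linear_combination h1 v w + h2 v w
    | smul c A _ h1 =>
      intro v w
      rw [← val_smul, ← Nat.cast_smul_eq_nsmul k]
      simp only [LinearMap.smul_apply, map_smul, smul_eq_mul]
      linear_combination (c.val : k) * h1 v w
  let ψ : G →* Module.End (ZMod p) W :=
    { toFun := fun g => (φ g).restrict (hinv g)
      map_one' := LinearMap.ext fun v => Subtype.ext (by simp)
      map_mul' := fun g h => LinearMap.ext fun v => Subtype.ext (by simp) }
  have hψ : ∀ g (v : W), ((ψ g v : W) : Module.End k V) = cjF ρ g v := fun g v => hφa g v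
  have hsub : ∀ v : W, (((ψ x - 1) v : W) : Module.End k V) = (cjF ρ x - 1) v := fun v => by
    rw [LinearMap.sub_apply, LinearMap.sub_apply, Module.End.one_apply, AddSubgroupClass.coe_sub, hψ,
      Module.End.one_apply]
  have hUψ : (ψ x - 1) ^ (p - 1) = 0 := by
    refine LinearMap.ext fun v => Subtype.ext ?_
    have key : ∀ (j : ℕ) (v : W),
        ((((ψ x - 1) ^ j) v : W) : Module.End k V) = ((cjF ρ x - 1) ^ j) (v : Module.End k V) := by
      intro j
      induction j with
      | zero => simp
      | succ j ih => intro v; rw [pow_succ, pow_succ, Module.End.mul_apply, Module.End.mul_apply, ih, hsub]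
    rw [key, hUskew _ (hWskew _ v.2)]
    rfl
  -- the form
  letI : Module (ZMod p) k := AddCommGroup.zmodModule (n := p) (G := k) (fun v => zmod_smul_zero k v)
  obtain ⟨F, hF⟩ : ∃ F : k →ₗ[ZMod p] ZMod p, F (LinearMap.trace k V (Z * L)) ≠ 0 := by
    obtain ⟨F, hF, -⟩ := Submodule.exists_le_ker_of_notMem
      (p := (⊥ : Submodule (ZMod p) k)) (v := LinearMap.trace k V (Z * L))
      (by simpa using htrZ)
    exact ⟨F, hF⟩
  have htsm : ∀ (c : ZMod p) (A : Module.End k V),
      LinearMap.trace k V (c • A) = c • LinearMap.trace k V A := fun c A => by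
    rw [← val_smul, ← val_smul, map_nsmul]
  have hsmul_mul : ∀ (c : ZMod p) (A A' : Module.End k V), (c • A) * A' = c • (A * A') ∧
      A * (c • A') = c • (A * A') := fun c A A' => by
    rw [← val_smul, ← val_smul c A', ← val_smul c (A * A'), smul_mul_assoc, mul_smul_comm]
    exact ⟨rfl, rfl⟩
  let b : LinearMap.BilinForm (ZMod p) W :=
    LinearMap.mk₂ (ZMod p) (fun A A' : W => F (LinearMap.trace k V (A.1 * A'.1)))
      (fun A A' A'' => by rw [Submodule.coe_add, add_mul, map_add, map_add])
      (fun c A A' => by rw [Submodule.coe_smul, (hsmul_mul c _ _).1, htsm, map_smul])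
      (fun A A' A'' => by rw [Submodule.coe_add, mul_add, map_add, map_add])
      (fun c A A' => by rw [Submodule.coe_smul, (hsmul_mul c _ _).2, htsm, map_smul])
  have hb : ∀ A A' : W, b A A' = F (LinearMap.trace k V (A.1 * A'.1)) := fun A A' => rfl
  have hZW : Z ∈ W := by
    rw [← hW]; exact Submodule.subset_span ⟨1, by simp⟩
  refine card_sylow_le_of_vector (by omega) hx P hP hG hUψ b
    (fun A A' => by rw [hb, hb, LinearMap.trace_mul_comm]) (fun g A A' => ?_)
    (Z := ⟨Z, hZW⟩) (L := (ψ x - 1) ((ψ x - 1) ⟨Z, hZW⟩)) rfl ?_ (fun g a ha hg => ?_) ?_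
  · rw [hb, hb, hψ, hψ, cjF_apply, cjF_apply,
      show ρ g * A.1 * ρ g⁻¹ * (ρ g * A'.1 * ρ g⁻¹) = ρ g * (A.1 * (ρ g⁻¹ * ρ g) * A'.1 * ρ g⁻¹) by
        simp only [mul_assoc],
      ← map_mul ρ g⁻¹ g, inv_mul_cancel, map_one, mul_one, LinearMap.trace_mul_comm,
      mul_assoc (A.1 * A'.1), ← map_mul ρ g⁻¹ g, inv_mul_cancel, map_one, mul_one]
  · refine Subtype.ext ?_
    rw [hsub, hsub, hsub, hZL, hLdef, cjF_sub_logF]
    rfl
  · refine Subtype.ext ?_
    rw [Submodule.coe_smul, hψ, hsub, hsub, hZL, hLdef, cjF_logF ρ hx ha hg, ← val_smul,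
      ← Nat.cast_smul_eq_nsmul k]
    congr 1
    rw [← map_natCast (ZMod.castHom (dvd_refl p) k), ZMod.natCast_zmod_val]
  · rw [hb, hsub, hsub, hZL]
    exact hF

end Skew

end CfsgLib.GreenThree
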