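import Cfsg.Agent.SmallDegree.CommutingConjugates
import Mathlib.LinearAlgebra.BilinearForm.Basic
import Mathlib.GroupTheory.Sylow
import Mathlib.Data.Set.Finite.Lemmas

/-!
# The three dimensional Green correspondent

`M` is a `ZMod p`-module of `G` on which `x`, generating a Sylow subgroup of order `p`, satisfies
`(x - 1) ^ (p - 1) = 0`, and `ε` is a projection onto a uniserial three dimensional subspace commuting
with the normalizer of `⟨x⟩`. The relative trace of `ε` has a power which is an idempotent commuting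
with `G`, whose image is again three dimensional uniserial.
-/

set_option autoImplicit false
set_option linter.unusedSectionVars false
set_option linter.style.haveILetI false

namespace CfsgLib.GreenThree

open Finset CfsgLib.SmallDegree
open scoped Classical

universe u v

/-- A finite monoid element has an idempotent positive power. -/
theorem exists_idem_pow {A : Type*} [Monoid A] [Finite A] (a : A) :
    ∃ n : ℕ, 0 < n ∧ a ^ n * a ^ n = a ^ n := by
  obtain ⟨i, j, hij, he⟩ := Finite.exists_ne_map_eq_of_infinite (fun n : ℕ => a ^ n)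
  wlog hlt : i < j generalizing i j
  · exact this j i hij.symm he.symm (by omega)
  obtain ⟨d, rfl⟩ : ∃ d, j = i + d := ⟨j - i, by omega⟩
  have hd : 0 < d := by omega
  have hstep : ∀ (m : ℕ) (t : ℕ), i ≤ t → a ^ (t + d * m) = a ^ t := by
    intro m
    induction m with
    | zero => simp
    | succ m ih =>
      intro t ht
      obtain ⟨s, rfl⟩ : ∃ s, t = i + s := ⟨t - i, by omega⟩
      rw [show i + s + d * (m + 1) = i + (d + (s + d * m)) by ring, pow_add a i,
        show a ^ (d + (s + d * m)) = a ^ d * a ^ (s + d * m) from pow_add a d _, ← mul_assoc,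
        ← pow_add a i d, ← he, ← pow_add, ← add_assoc, ih (i + s) ht]
  refine ⟨d * (i + 1), Nat.mul_pos hd (by omega), ?_⟩
  rw [← pow_add]
  exact hstep (i + 1) _ (le_trans (Nat.le_succ i) (Nat.le_mul_of_pos_left _ hd))

variable {p : ℕ} [hp : Fact p.Prime] {G : Type u} [Group G] [Finite G]
  {M : Type v} [AddCommGroup M] [Module (ZMod p) M] [FiniteDimensional (ZMod p) M]
  {ψ : G →* Module.End (ZMod p) M} {x : G}

/-- Being self-adjoint for a bilinear form. -/
def SelfAdj (b : LinearMap.BilinForm (ZMod p) M) (A : Module.End (ZMod p) M) : Prop :=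
  ∀ v v', b (A v) v' = b v (A v')

theorem selfAdj_pow {b : LinearMap.BilinForm (ZMod p) M} {A : Module.End (ZMod p) M}
    (hA : SelfAdj b A) (n : ℕ) : SelfAdj b (A ^ n) := by
  induction n with
  | zero => intro v v'; rfl
  | succ n ih =>
    intro v v'
    conv_lhs => rw [pow_succ]
    conv_rhs => rw [pow_succ']
    rw [Module.End.mul_apply, Module.End.mul_apply, ih, hA]

/-- **The idempotent.** -/
theorem exists_idem (hx : orderOf x = p) (hsq : ¬ p ^ 2 ∣ Nat.card G)
    (hU : (ψ x - 1) ^ (p - 1) = 0) {ε : Module.End (ZMod p) M} (hε : ε * ε = ε)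
    (hN : ∀ g ∈ Subgroup.normalizer (Subgroup.zpowers x : Set G), Commute ε (ψ g))
    {Z L : M} (hεZ : ε Z = Z)
    (hεM : ∀ A, ∃ a b c : ZMod p, ε A = a • Z + b • (ψ x - 1) Z + c • L)
    (hL : (ψ x - 1) ((ψ x - 1) Z) = L) (hUL : (ψ x - 1) L = 0) (hL0 : L ≠ 0) :
    ∃ (η : Module.End (ZMod p) M) (w : M), η * η = η ∧ (∀ g, Commute η (ψ g)) ∧
      (∀ b : LinearMap.BilinForm (ZMod p) M, (∀ g v v', b (ψ g v) (ψ g v') = b v v') →
        SelfAdj b ε → SelfAdj b η) ∧
      η w = w ∧ ε w = Z ∧ (∃ a, w = ε w + (ψ x - 1) a) ∧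
      (∀ A, ∃ a b c : ZMod p,
        η A = a • w + b • (ψ x - 1) w + c • (ψ x - 1) ((ψ x - 1) w)) ∧
      (ψ x - 1) ((ψ x - 1) w) ≠ 0 ∧ (ψ x - 1) ((ψ x - 1) ((ψ x - 1) w)) = 0 := by
  obtain ⟨U, hUdef⟩ : ∃ U, U = ψ x - 1 := ⟨_, rfl⟩
  rw [← hUdef] at hU hεM hL hUL ⊢
  obtain ⟨P, hP⟩ : ∃ P, Subgroup.zpowers x = P := ⟨_, rfl⟩
  haveI : Fintype (G ⧸ P) := Fintype.ofFinite _
  have hxN : x ∈ Subgroup.normalizer (Subgroup.zpowers x : Set G) :=
    Subgroup.le_normalizer (Subgroup.mem_zpowers x)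
  have hεx : Commute ε (ψ x) := hN x hxN
  have hεU : Commute ε U := hUdef ▸ hεx.sub_right (Commute.one_right _)
  have hPpow : ∀ {y : G}, y ∈ P → ∃ i : ℕ, x ^ i = y := fun {y} hy => by
    rw [← hP, ← mem_powers_iff_mem_zpowers, Submonoid.mem_powers_iff] at hy
    exact hy
  have hinv : ∀ g : G, ψ g⁻¹ * ψ g = 1 := fun g => by rw [← map_mul, inv_mul_cancel, map_one]
  have hinv' : ∀ g : G, ψ g * ψ g⁻¹ = 1 := fun g => by rw [← map_mul, mul_inv_cancel, map_one]
  obtain ⟨F, hF⟩ : ∃ F : G ⧸ P → Module.End (ZMod p) M, ∀ q, F q = ψ q.out * ε * ψ q.out⁻¹ :=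
    ⟨_, fun _ => rfl⟩
  have hFmk : ∀ g : G, F (g : G ⧸ P) = ψ g * ε * ψ g⁻¹ := by
    intro g
    obtain ⟨y, hy⟩ := QuotientGroup.mk_out_eq_mul P g
    obtain ⟨i, hi⟩ := hPpow y.2
    rw [hF, hy, ← hi, mul_inv_rev, map_mul, map_mul, map_pow, mul_assoc (ψ g),
      ← (hεx.pow_right i).eq, mul_assoc, mul_assoc, ← mul_assoc (ψ x ^ i), ← map_pow, hinv',
      one_mul, mul_assoc]
  obtain ⟨T, hT⟩ : ∃ T, T = ∑ q, F q := ⟨_, rfl⟩
  have hTeq : ∀ g : G, Commute (ψ g) T := by
    intro g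
    have h1 : ψ g * T * ψ g⁻¹ = T := by
      rw [hT, mul_sum, sum_mul]
      refine Fintype.sum_equiv (MulAction.toPerm g) _ _ fun q => ?_
      conv_rhs => rw [MulAction.toPerm_apply, ← QuotientGroup.out_eq' q, MulAction.Quotient.smul_coe,
        smul_eq_mul, hFmk, mul_inv_rev, map_mul, map_mul]
      rw [hF]
      simp only [mul_assoc]
    show _ = _
    conv_rhs => rw [← h1, mul_assoc, hinv, mul_one]
  have hper : ∀ q : G ⧸ P, (fun q => x • q)^[p] q = q := fun q => by
    simp only [smul_iterate]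
    rw [← hx, pow_orderOf_eq_one, one_smul]
  have hfixinv : ∀ q ∈ univ.filter (fun q : G ⧸ P => ¬ x • q = q),
      x • q ∈ univ.filter (fun q : G ⧸ P => ¬ x • q = q) := fun q hq => by
    simp only [mem_filter, mem_univ, true_and] at hq ⊢
    exact fun e => hq (MulAction.injective x e)
  -- fixed cosets lie in the normalizer
  have hfixN : ∀ q : G ⧸ P, x • q = q →
      q.out ∈ Subgroup.normalizer (Subgroup.zpowers x : Set G) := by
    intro q hq
    have h1 : ((q.out : G) : G ⧸ P) = ((x * q.out : G) : G ⧸ P) := by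
      conv_rhs => rw [← smul_eq_mul, ← MulAction.Quotient.smul_coe, QuotientGroup.out_eq', hq]
      exact QuotientGroup.out_eq' q
    rw [QuotientGroup.eq, ← mul_assoc] at h1
    replace h1 : q.out⁻¹ * x * q.out ∈ Subgroup.zpowers x := hP ▸ h1
    have h2 : Subgroup.zpowers (q.out⁻¹ * x * q.out) = Subgroup.zpowers x := by
      refine Subgroup.eq_of_le_of_card_ge (Subgroup.zpowers_le.2 h1) (le_of_eq ?_)
      rw [Nat.card_zpowers, Nat.card_zpowers]
      exact (orderOf_injective (MulAut.conj q.out⁻¹).toMonoidHom (MulEquiv.injective _) x).symm.trans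
        (congrArg orderOf (by simp))
    refine inv_mem_iff.1 (Subgroup.mem_normalizer_iff.2 fun w => ?_)
    rw [inv_inv]
    constructor
    · intro hw
      obtain ⟨k, rfl⟩ := Subgroup.mem_zpowers_iff.1 hw
      rw [show q.out⁻¹ * x ^ k * q.out = (q.out⁻¹ * x * q.out) ^ k by
        rw [← MulAut.conj_inv_apply, ← MulAut.conj_inv_apply, map_zpow]]
      exact zpow_mem h1 k
    · intro hw
      rw [← h2] at hw
      obtain ⟨k, hk⟩ := Subgroup.mem_zpowers_iff.1 hw
      rw [show q.out⁻¹ * x * q.out = (MulAut.conj q.out)⁻¹ x from (MulAut.conj_inv_apply _ _).symm,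
        ← map_zpow, show q.out⁻¹ * w * q.out = (MulAut.conj q.out)⁻¹ w from
          (MulAut.conj_inv_apply _ _).symm] at hk
      exact ⟨k, (MulEquiv.injective _) hk⟩
  obtain ⟨Fix, hFix⟩ : ∃ Fix, Fix = univ.filter (fun q : G ⧸ P => x • q = q) := ⟨_, rfl⟩
  obtain ⟨m, hm⟩ : ∃ m : ZMod p, m = (Fix.card : ZMod p) := ⟨_, rfl⟩
  have hm0 : m ≠ 0 := by
    intro h0
    have hz : ((univ.filter (fun q : G ⧸ P => ¬ x • q = q)).card : ZMod p) = 0 := by
      have := sum_iterate_mem (fun q : G ⧸ P => x • q) hper (fun _ => (1 : ZMod p)) ⊥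
        (fun q _ => by simp) _ hfixinv (fun q hq => (mem_filter.1 hq).2)
      simpa using this
    have htot := card_filter_add_card_filter_not (s := (univ : Finset (G ⧸ P))) (fun q => x • q = q)
    apply hsq
    rw [← P.card_mul_index, ← hP, Nat.card_zpowers, hx, sq, hP, Subgroup.index_eq_card]
    refine Nat.mul_dvd_mul_left p ?_
    rw [← ZMod.natCast_eq_zero_iff, Nat.card_eq_fintype_card, ← Finset.card_univ, ← htot, Nat.cast_add,
      hz, add_zero, ← hFix, ← hm, h0]
  obtain ⟨R, hR⟩ : ∃ R, R = ∑ q ∈ univ.filter (fun q : G ⧸ P => ¬ x • q = q), F q := ⟨_, rfl⟩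
  have hTm : T = m • ε + R := by
    rw [hT, hR, ← sum_filter_add_sum_filter_not univ (fun q : G ⧸ P => x • q = q), ← hFix]
    congr 1
    rw [sum_congr rfl fun q hq => show F q = ε by
      rw [hFix, mem_filter] at hq
      rw [hF, ← (hN _ (hfixN q hq.2)).eq, mul_assoc, hinv', mul_one],
      sum_const, hm, Nat.cast_smul_eq_nsmul]
  -- the free orbits
  obtain ⟨U', hU'⟩ : ∃ U', U' = ψ x⁻¹ - 1 := ⟨_, rfl⟩
  have hU'n : U' ^ (p - 1) = 0 := by
    rw [hU']
    exact sub_one_pow_inv ψ (by rw [← hUdef]; exact hU)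
  have hu : ψ x = 1 + U := by rw [hUdef]; abel
  have hu' : ψ x⁻¹ = 1 + U' := by rw [hU']; abel
  have horb : ∀ (q : G ⧸ P) (i : ℕ),
      F ((fun q => x • q)^[i] q) = (1 + U) ^ i * F q * (1 + U') ^ i := by
    intro q i
    simp only [smul_iterate]
    rw [← QuotientGroup.out_eq' q, MulAction.Quotient.smul_coe, smul_eq_mul, hFmk, hFmk,
      mul_inv_rev, map_mul, map_mul, ← hu, ← hu', ← map_pow, ← map_pow, inv_pow]
    simp only [mul_assoc]
  obtain ⟨S, hS⟩ : R ∈ (AddMonoidHom.mulLeft U).range := by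
    rw [hR]
    refine sum_iterate_mem (fun q : G ⧸ P => x • q) hper F _ (fun q _ => ?_) _ hfixinv
      (fun q hq => (mem_filter.1 hq).2)
    rw [sum_congr rfl fun i _ => horb q i]
    refine ⟨∑ i ∈ range p, (∑ j ∈ range i, (1 + U) ^ j) * F q * (1 + U') ^ i, ?_⟩
    rw [AddMonoidHom.coe_mulLeft, mul_sum]
    have h0 : ∑ i ∈ range p, F q * (1 + U') ^ i = 0 := by
      rw [← mul_sum, geom_sum_char, hU'n, mul_zero]
    rw [← sub_zero (∑ i ∈ range p, (1 + U) ^ i * F q * (1 + U') ^ i), ← h0, ← sum_sub_distrib]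
    refine sum_congr rfl fun i _ => ?_
    rw [← mul_assoc, ← mul_assoc, ← sub_mul, ← sub_one_mul, ← mul_geom_sum, add_sub_cancel_left]
  -- the nilpotent ideal
  let I : Module.End (ZMod p) M → Prop := fun A => Commute A U ∧ ∃ S, A = U * S
  have hTU : Commute T U := hUdef ▸ ((hTeq x).symm.sub_right (Commute.one_right _))
  have hRI : I R := by
    refine ⟨?_, S, hS.symm⟩
    rw [show R = T - m • ε by rw [hTm, add_sub_cancel_left]]
    exact hTU.sub_left (hεU.smul_left m)
  have hIadd : ∀ {A B}, I A → I B → I (A + B) := fun {A B} hA hB => by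
    obtain ⟨hAc, S₁, rfl⟩ := hA
    obtain ⟨hBc, S₂, rfl⟩ := hB
    exact ⟨hAc.add_left hBc, S₁ + S₂, (mul_add _ _ _).symm⟩
  have hImul : ∀ {A B}, I A → Commute B U → I (A * B) ∧ I (B * A) := fun {A B} hA hB => by
    obtain ⟨hAc, S₁, hA'⟩ := hA
    refine ⟨⟨hAc.mul_left hB, S₁ * B, by rw [hA', mul_assoc]⟩, ⟨hB.mul_left hAc, B * S₁, ?_⟩⟩
    rw [hA', ← mul_assoc, hB.eq, mul_assoc]
  have hIsmul : ∀ (c : ZMod p) {A}, I A → I (c • A) := fun c {A} hA => by
    obtain ⟨hAc, S₁, rfl⟩ := hA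
    exact ⟨hAc.smul_left c, c • S₁, (mul_smul_comm c U S₁).symm⟩
  have hInil : ∀ {A}, I A → A ^ (p - 1) = 0 := fun {A} hA => by
    obtain ⟨hAc, S₁, hA'⟩ := hA
    have h1 : ∀ s, ∃ S', A ^ s = U ^ s * S' := by
      intro s
      induction s with
      | zero => exact ⟨1, by simp⟩
      | succ s ih =>
        obtain ⟨S', hS'⟩ := ih
        refine ⟨S' * S₁, ?_⟩
        rw [pow_succ, show A ^ s * A = A ^ s * (U * S₁) by rw [← hA'], ← mul_assoc (A ^ s),
          (hAc.pow_left s).eq, hS', mul_assoc, mul_assoc, pow_succ', mul_assoc]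
    obtain ⟨S', hS'⟩ := h1 (p - 1)
    rw [hS', hU, zero_mul]
  obtain ⟨T', hT'⟩ : ∃ T', T' = m⁻¹ • T := ⟨_, rfl⟩
  have hT'eq : T' = ε + m⁻¹ • R := by
    rw [hT', hTm, smul_add, smul_smul, inv_mul_cancel₀ hm0, one_smul]
  have hpow : ∀ n, 0 < n → ∃ r, I r ∧ T' ^ n = ε + r := by
    intro n hn
    induction n, hn using Nat.le_induction with
    | base => exact ⟨_, hIsmul _ hRI, by rw [pow_one, hT'eq]⟩
    | succ n _ ih =>
      obtain ⟨r, hr, he⟩ := ih
      refine ⟨ε * (m⁻¹ • R) + r * (ε + m⁻¹ • R), hIadd (hImul (hIsmul _ hRI) hεU).2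
        (hImul hr ?_).1, ?_⟩
      · exact hεU.add_left ((hIsmul _ hRI).1)
      · rw [pow_succ, he, hT'eq, add_mul, mul_add, hε, add_assoc]
  haveI : Finite M := Module.finite_of_finite (ZMod p)
  haveI : Finite (Module.End (ZMod p) M) :=
    Finite.of_injective (fun A => (A : M → M)) DFunLike.coe_injective
  obtain ⟨n, hn, hidem⟩ := exists_idem_pow T'
  obtain ⟨r, hr, hη⟩ := hpow n hn
  obtain ⟨η, hηdef⟩ : ∃ η, η = T' ^ n := ⟨_, rfl⟩
  rw [← hηdef] at hidem hη
  have hηg : ∀ g, Commute η (ψ g) := fun g => by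
    rw [hηdef, hT']
    exact (((hTeq g).symm).smul_left _).pow_left n
  have hηU : Commute η U := hUdef ▸ (hηg x).sub_right (Commute.one_right _)
  -- the vector
  have hεr : I (ε * r) := (hImul hr hεU).2
  obtain ⟨D, hD⟩ : ∃ D, D = -(ε * r) := ⟨_, rfl⟩
  have hD0 : D ^ (p - 1) = 0 := by rw [hD, neg_pow, hInil hεr, mul_zero]
  obtain ⟨v₀, hv₀⟩ : ∃ v₀, v₀ = (∑ i ∈ range (p - 1), D ^ i) Z := ⟨_, rfl⟩
  have hεD : ε * D = D := by rw [hD, mul_neg, ← mul_assoc, hε]
  have hεv₀ : ε v₀ = v₀ := by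
    rw [hv₀, LinearMap.sum_apply, map_sum]
    refine sum_congr rfl fun i _ => ?_
    rcases Nat.eq_zero_or_pos i with rfl | hi
    · simp [hεZ]
    · obtain ⟨j, rfl⟩ := Nat.exists_eq_add_of_le hi
      rw [add_comm, pow_succ', ← Module.End.mul_apply, ← mul_assoc, hεD]
  obtain ⟨w, hw⟩ : ∃ w, w = η v₀ := ⟨_, rfl⟩
  have hηw : η w = w := by rw [hw, ← Module.End.mul_apply, hidem]
  have hεw : ε w = Z := by
    have h1 : (ε * η) v₀ = ((1 - D) * ∑ i ∈ range (p - 1), D ^ i) Z := by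
      rw [hη, mul_add, hε, Module.End.mul_apply, ← hv₀, LinearMap.sub_apply, LinearMap.add_apply,
        Module.End.one_apply, hεv₀, hD, LinearMap.neg_apply, sub_neg_eq_add]
    rw [mul_neg_geom_sum, hD0, sub_zero, Module.End.one_apply] at h1
    rwa [hw]
  have hzero : ∀ d, η d = d → ε d = 0 → d = 0 := by
    intro d h1 h2
    have h3 : r d = d := by
      have := LinearMap.congr_fun hη d
      rwa [h1, LinearMap.add_apply, h2, zero_add, eq_comm] at this
    have h4 : ∀ k, (r ^ k) d = d := by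
      intro k
      induction k with
      | zero => simp
      | succ k ih => rw [pow_succ, Module.End.mul_apply, h3, ih]
    rw [← h4 (p - 1), hInil hr, LinearMap.zero_apply]
  have hc : ∀ A : Module.End (ZMod p) M, Commute A U → ∀ v, A (U v) = U (A v) :=
    fun A hA v => LinearMap.congr_fun hA.eq v
  refine ⟨η, w, hidem, hηg, fun b hb hs => ?_, hηw, hεw, ?_, fun A => ?_, ?_, ?_⟩
  · rw [hηdef]
    refine selfAdj_pow ?_ n
    intro v v'
    simp only [hT', hT, LinearMap.smul_apply, LinearMap.sum_apply, map_smul, map_sum, hF,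
      Module.End.mul_apply]
    refine congrArg (fun t => m⁻¹ • t) (sum_congr rfl fun q _ => ?_)
    have e : ∀ g u u', b (ψ g u) u' = b u (ψ g⁻¹ u') := fun g u u' => by
      rw [← hb g u (ψ g⁻¹ u'), ← Module.End.mul_apply (ψ g) (ψ g⁻¹), hinv', Module.End.one_apply]
    rw [e, hs, e, inv_inv]
  · obtain ⟨-, S₁, hS₁⟩ := hr
    refine ⟨S₁ w, ?_⟩
    rw [← Module.End.mul_apply U, ← hS₁, ← LinearMap.add_apply, ← hη, hηw]
  · obtain ⟨a, b, c, habc⟩ := hεM (η A)
    refine ⟨a, b, c, sub_eq_zero.1 (hzero _ ?_ ?_)⟩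
    · simp only [map_sub, map_add, map_smul, hc η hηU, hηw]
      rw [← Module.End.mul_apply, hidem]
    · simp only [map_sub, map_add, map_smul, hc ε hεU, hεw, hL, habc, sub_self]
  · intro h0
    have := congrArg ε h0
    rw [hc ε hεU, hc ε hεU, hεw, hL, map_zero] at this
    exact hL0 this
  · refine hzero _ ?_ ?_
    · simp only [hc η hηU, hηw]
    · simp only [hc ε hεU, hεw, hL, hUL]

end CfsgLib.GreenThree
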