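import Cfsg.Agent.GreenThree.Idem
import Mathlib.Data.Fintype.Option
import Mathlib.Data.Nat.Choose.Cast

/-!
# Counting Sylow subgroups on the conic

An orthogonal three dimensional uniserial module gives at most `p + 1` Sylow subgroups: they map
injectively to the isotropic lines.
-/

set_option autoImplicit false
set_option linter.unusedSectionVars false
set_option linter.style.haveILetI false

namespace CfsgLib.GreenThree

open Finset CfsgLib.SmallDegree
open scoped Classical

universe u v

variable {p : ℕ} [hp : Fact p.Prime] {G : Type u} [Group G] [Finite G]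
  {M : Type v} [AddCommGroup M] [Module (ZMod p) M] [FiniteDimensional (ZMod p) M]
  {ψ : G →* Module.End (ZMod p) M} {x : G}

/-- **At most `p + 1` Sylow subgroups.** -/
theorem card_sylow_le_of_form (hp3 : 3 ≤ p) (hx : orderOf x = p) (P : Sylow p G)
    (hP : (P : Subgroup G) = Subgroup.zpowers x)
    (hG : ∀ K : Subgroup G, K.Normal → x ∉ K → ∀ k ∈ K, Commute x k)
    (hU : (ψ x - 1) ^ (p - 1) = 0) (b : LinearMap.BilinForm (ZMod p) M)
    (hsym : ∀ v v', b v v' = b v' v) (hinv : ∀ g v v', b (ψ g v) (ψ g v') = b v v')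
    {ε : Module.End (ZMod p) M} (hε : ε * ε = ε) (hεb : SelfAdj b ε)
    (hN : ∀ g ∈ Subgroup.normalizer (Subgroup.zpowers x : Set G), Commute ε (ψ g))
    {Z L : M} (hεZ : ε Z = Z)
    (hεM : ∀ A, ∃ a b c : ZMod p, ε A = a • Z + b • (ψ x - 1) Z + c • L)
    (hL : (ψ x - 1) ((ψ x - 1) Z) = L) (hUL : (ψ x - 1) L = 0) (hk : b Z L ≠ 0) :
    Nat.card (Sylow p G) ≤ p + 1 := by
  have hsq : ¬ p ^ 2 ∣ Nat.card G := fun hd => by
    have h1 := (hp.out.pow_dvd_iff_le_factorization Nat.card_pos.ne').1 hd
    have h2 : Nat.card (P : Subgroup G) = p := by rw [hP, Nat.card_zpowers, hx]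
    rw [P.card_eq_multiplicity] at h2
    have h3 := Nat.pow_le_pow_right hp.out.pos h1
    rw [h2] at h3
    nlinarith [hp.out.two_le]
  obtain ⟨η, w, hη, hηg, hηb, hηw, hεw, ⟨a₀, ha₀⟩, hηM, hw2, hw3⟩ :=
    exists_idem hx hsq hU hε hN hεZ hεM hL hUL (fun h => hk (by rw [h, map_zero]))
  obtain ⟨U, hUdef⟩ : ∃ U, U = ψ x - 1 := ⟨_, rfl⟩
  rw [← hUdef] at hεM hL hUL ha₀ hηM hw2 hw3
  have hψx : ∀ v, ψ x v = v + U v := fun v => by
    rw [hUdef, LinearMap.sub_apply, Module.End.one_apply, add_sub_cancel]
  obtain ⟨L', hL'⟩ : ∃ L', L' = U (U w) := ⟨_, rfl⟩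
  rw [← hL'] at hηM hw2 hw3
  -- the form on the uniserial module
  have hrel : ∀ A B, b (U A) B + b A (U B) + b (U A) (U B) = 0 := fun A B => by
    have h := hinv x A B
    rw [hψx, hψx] at h
    simp only [map_add, LinearMap.add_apply] at h
    linear_combination h
  have hperp : ∀ a, b (U a) L' = 0 := fun a => by
    have h := hrel a L'
    rw [hw3] at h
    simpa using h
  have hLL : b L' L' = 0 := by conv_lhs => arg 1; arg 2; rw [hL']
                               exact hperp _
  obtain ⟨k, hkdef⟩ : ∃ k, k = b w L' := ⟨_, rfl⟩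
  have hk0 : k ≠ 0 := by
    have h1 : b Z L' = k := by
      rw [hkdef]
      conv_rhs => rw [ha₀, map_add, LinearMap.add_apply, hperp, add_zero, hεw]
    have hεU : ∀ v, ε (U v) = U (ε v) := fun v => by
      have hc : Commute ε U :=
        hUdef ▸ (hN x (Subgroup.le_normalizer (Subgroup.mem_zpowers x))).sub_right (Commute.one_right _)
      exact LinearMap.congr_fun hc.eq v
    have h2 : b Z L' = b Z L := by
      conv_lhs => rw [← hεZ, hεb, hL', hεU, hεU, hεw, hL]
    rw [← h1, h2]
    exact hk
  obtain ⟨z, hz⟩ : ∃ z, z = b w w := ⟨_, rfl⟩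
  obtain ⟨y, hy⟩ : ∃ y, y = b w (U w) := ⟨_, rfl⟩
  have hUU : b (U w) (U w) = -k := by
    have h := hrel w (U w)
    rw [← hL', hperp, ← hkdef] at h
    linear_combination h
  have hbL : ∀ c0 c1 c2 : ZMod p, b (c0 • w + c1 • U w + c2 • L') L' = c0 * k := fun c0 c1 c2 => by
    simp [hperp, hLL, ← hkdef]
  have hbU : ∀ c0 c1 c2 : ZMod p, b (c0 • w + c1 • U w + c2 • L') (U w) = c0 * y - c1 * k :=
    fun c0 c1 c2 => by
    rw [sub_eq_add_neg, ← mul_neg]
    simp [← hy, hUU, hsym L' (U w), hperp]
  have hbb : ∀ c0 c1 c2 : ZMod p, b (c0 • w + c1 • U w + c2 • L') (c0 • w + c1 • U w + c2 • L') =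
      c0 ^ 2 * z + 2 * c0 * c1 * y - c1 ^ 2 * k + 2 * c0 * c2 * k := fun c0 c1 c2 => by
    simp only [map_add, map_smul, LinearMap.add_apply, LinearMap.smul_apply, smul_eq_mul, hperp, hLL,
      hUU, hsym L' (U w), hsym L' w, hsym (U w) w, ← hkdef, ← hy, ← hz]
    ring
  -- the action on the module
  obtain ⟨WM, hWM⟩ : ∃ WM : G → M → M, ∀ g v, WM g v = ψ g v := ⟨_, fun _ _ => rfl⟩
  have hηU : ∀ v, η (U v) = U (η v) := fun v => by
    have hc : Commute η U := hUdef ▸ (hηg x).sub_right (Commute.one_right _)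
    exact LinearMap.congr_fun hc.eq v
  have hηψ : ∀ g v, η (ψ g v) = ψ g (η v) := fun g v => LinearMap.congr_fun (hηg g).eq v
  have hηUw : η (U w) = U w := by rw [hηU, hηw]
  have hηL : η L' = L' := by rw [hL', hηU, hηUw]
  have hcoord : ∀ g v, η v = v → ∃ c0 c1 c2 : ZMod p, ψ g v = c0 • w + c1 • U w + c2 • L' := by
    intro g v hv
    obtain ⟨c0, c1, c2, h⟩ := hηM (ψ g v)
    exact ⟨c0, c1, c2, by rw [← h, hηψ, hv]⟩
  have hfaith : ∀ (g : G) (j : ℕ), ψ g w = w → ψ g (U w) = U w → ψ g L' = L' →
      (x ^ j * g) ^ p = 1 → g = 1 := by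
    intro g j h1 h2 h3 hgp
    let K : Subgroup G :=
      { carrier := {g | ∀ v, η v = v → ψ g v = v}
        one_mem' := fun v _ => by rw [map_one, Module.End.one_apply]
        mul_mem' := fun {g h} hg hh v hv => by rw [map_mul, Module.End.mul_apply, hh v hv, hg v hv]
        inv_mem' := fun {g} hg v hv => by
          conv_lhs => arg 2; rw [← hg v hv]
          rw [← Module.End.mul_apply, ← map_mul, inv_mul_cancel, map_one, Module.End.one_apply] }
    have hK : K.Normal := ⟨fun g hg h v hv => by
      rw [map_mul, map_mul, Module.End.mul_apply, Module.End.mul_apply, hg _ (by rw [hηψ, hv]),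
        ← Module.End.mul_apply, ← map_mul, mul_inv_cancel, map_one, Module.End.one_apply]⟩
    have hxK : x ∉ K := fun hxK => by
      have h := hxK (U w) hηUw
      rw [hψx, ← hL', add_eq_left] at h
      exact hw2 h
    have hgK : g ∈ K := fun v hv => by
      obtain ⟨c0, c1, c2, h⟩ := hηM v
      rw [hv] at h
      rw [h]
      simp [h1, h2, h3]
    have hc : Commute x g := hG K hK hxK g hgK
    rw [(hc.pow_left j).mul_pow, ← pow_mul, mul_comm j p, pow_mul, ← hx, pow_orderOf_eq_one, one_pow,
      one_mul] at hgp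
    by_contra hg1
    rw [hx] at hgp
    have hgo : orderOf g = p := orderOf_eq_prime hgp hg1
    obtain ⟨Q, hQ⟩ := (IsPGroup.of_card (n := 1) (by rw [Nat.card_zpowers, hgo, pow_one]) :
      IsPGroup p (Subgroup.zpowers g)).exists_le_sylow
    obtain ⟨a, ha⟩ := MulAction.exists_smul_eq G Q P
    refine hxK ?_
    have hxP : x ∈ ((a • Q : Sylow p G) : Subgroup G) := by rw [ha, hP]; exact Subgroup.mem_zpowers x
    obtain ⟨q, hq, rfl⟩ := hxP
    have hQg : (Q : Subgroup G) = Subgroup.zpowers g := by
      refine (Subgroup.eq_of_le_of_card_ge hQ (le_of_eq ?_)).symm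
      rw [Nat.card_zpowers, hgo, Q.card_eq_multiplicity, ← P.card_eq_multiplicity]
      show Nat.card (P : Subgroup G) = p
      rw [hP, Nat.card_zpowers, hx]
    exact hK.conj_mem _ ((Subgroup.zpowers_le.2 hgK) (hQg ▸ hq)) a
  -- the powers of `x`
  have hpow : ∀ j : ℕ, ψ (x ^ j) w = w + (j : ZMod p) • U w + (j.choose 2 : ZMod p) • L' ∧
      ψ (x ^ j) (U w) = U w + (j : ZMod p) • L' ∧ ψ (x ^ j) L' = L' := by
    intro j
    rw [map_pow, show ψ x = 1 + U by rw [hUdef]; abel]
    refine ⟨?_, ?_, ?_⟩
    · rw [one_add_pow_apply U (by rw [← hL', hw3]) j, hL']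
    · rw [one_add_pow_apply U (by rw [← hL', hw3, map_zero]) j, ← hL', hw3, smul_zero, add_zero]
    · rw [one_add_pow_apply U (by rw [hw3, map_zero, map_zero]) j, hw3, map_zero, smul_zero,
        smul_zero, add_zero, add_zero]
  -- the stabilizer of the line of `L'`
  have hstab : ∀ g : G, ∀ a : ZMod p, ψ g L' = a • L' →
      g ∈ Subgroup.normalizer (Subgroup.zpowers x : Set G) := by
    intro g a hga
    have ha : a ≠ 0 := by
      rintro rfl
      rw [zero_smul] at hga
      have h := congrArg (ψ g⁻¹) hga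
      rw [map_zero, ← Module.End.mul_apply, ← map_mul, inv_mul_cancel, map_one,
        Module.End.one_apply] at h
      exact hw2 h
    obtain ⟨t, ht⟩ : ∃ t, t = g * x * g⁻¹ := ⟨_, rfl⟩
    have hgi : ψ g⁻¹ L' = a⁻¹ • L' := by
      rw [eq_inv_smul_iff₀ ha, ← map_smul, ← hga, ← Module.End.mul_apply, ← map_mul, inv_mul_cancel,
        map_one, Module.End.one_apply]
    have htL : ψ t L' = L' := by
      rw [ht, map_mul, map_mul, Module.End.mul_apply, Module.End.mul_apply, hgi, map_smul, map_smul,
        hψx L', hw3, add_zero, hga, smul_smul, inv_mul_cancel₀ ha, one_smul]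
    obtain ⟨c0, c1, γ, hU1⟩ := hcoord t (U w) hηUw
    obtain ⟨d0, α, β, hw1⟩ := hcoord t w hηw
    have hc0 : c0 = 0 := by
      have h := hinv t (U w) L'
      rw [htL, hU1, hbL, hperp, mul_eq_zero] at h
      exact h.resolve_right hk0
    subst hc0
    have hd0 : d0 = 1 := by
      have h := hinv t w L'
      rw [htL, hw1, hbL, ← hkdef] at h
      exact mul_right_cancel₀ hk0 (h.trans (one_mul k).symm)
    subst hd0
    rw [zero_smul, zero_add] at hU1
    have hc1 : c1 = 1 := by
      have hpw : ∀ j : ℕ, ∃ s : ZMod p, ψ (t ^ j) (U w) = c1 ^ j • U w + s • L' := by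
        intro j
        induction j with
        | zero => exact ⟨0, by simp⟩
        | succ j ih =>
          obtain ⟨s, hs⟩ := ih
          refine ⟨c1 ^ j * γ + s, ?_⟩
          rw [pow_succ', map_mul, Module.End.mul_apply, hs, map_add, map_smul, map_smul, hU1, htL,
            smul_add, smul_smul, smul_smul, add_assoc, ← add_smul, pow_succ]
      obtain ⟨s, hs⟩ := hpw p
      have htp : t ^ p = 1 := by rw [ht, conj_pow, ← hx, pow_orderOf_eq_one, mul_one, mul_inv_cancel]
      rw [htp, map_one, Module.End.one_apply, ZMod.pow_card] at hs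
      have h2 := congrArg (fun v => b v (U w)) hs
      simp only [map_add, map_smul, LinearMap.add_apply, LinearMap.smul_apply, smul_eq_mul, hUU,
        hsym L' (U w), hperp, mul_zero, add_zero] at h2
      exact mul_right_cancel₀ (neg_ne_zero.2 hk0) (h2.symm.trans (one_mul _).symm)
    subst hc1
    rw [one_smul] at hU1
    rw [one_smul] at hw1
    have hγ : γ = α := by
      have h := hinv t w (U w)
      rw [hU1, map_add, map_smul, hw1, show w + α • U w + β • L' = (1 : ZMod p) • w + α • U w + β • L' by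
        rw [one_smul], hbU, hbL, smul_eq_mul, ← hy] at h
      have h3 : (γ - α) * k = 0 := by linear_combination h
      exact sub_eq_zero.1 ((mul_eq_zero.1 h3).resolve_right hk0)
    subst hγ
    have hβ : β = (γ.val.choose 2 : ZMod p) := by
      have h1 := hinv t w w
      rw [hw1, show w + γ • U w + β • L' = (1 : ZMod p) • w + γ • U w + β • L' by rw [one_smul], hbb]
        at h1
      have h2 := hinv (x ^ γ.val) w w
      rw [(hpow γ.val).1, ZMod.natCast_zmod_val,
        show w + γ • U w + (γ.val.choose 2 : ZMod p) • L' =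
          (1 : ZMod p) • w + γ • U w + (γ.val.choose 2 : ZMod p) • L' by rw [one_smul], hbb, ← h1] at h2
      have h2' : (2 : ZMod p) ≠ 0 := fun h2' => by
        have h2'' : ((2 : ℕ) : ZMod p) = 0 := by exact_mod_cast h2'
        have := Nat.le_of_dvd two_pos ((ZMod.natCast_eq_zero_iff _ _).1 h2'')
        omega
      refine mul_right_cancel₀ hk0 (mul_left_cancel₀ h2' ?_)
      linear_combination -h2
    have hj := hpow γ.val
    rw [ZMod.natCast_zmod_val, ← hβ, ← hw1, ← hU1] at hj
    have heq : (x ^ γ.val)⁻¹ * t = 1 := by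
      refine hfaith _ γ.val ?_ ?_ ?_ (by rw [mul_inv_cancel_left, ht, conj_pow, ← hx, pow_orderOf_eq_one,
        mul_one, mul_inv_cancel])
      · rw [map_mul, Module.End.mul_apply, ← hj.1, ← Module.End.mul_apply, ← map_mul, inv_mul_cancel,
          map_one, Module.End.one_apply]
      · rw [map_mul, Module.End.mul_apply, ← hj.2.1, ← Module.End.mul_apply, ← map_mul, inv_mul_cancel,
          map_one, Module.End.one_apply]
      · conv_lhs => rw [map_mul, Module.End.mul_apply, htL, ← hj.2.2, ← Module.End.mul_apply, ← map_mul,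
          inv_mul_cancel, map_one, Module.End.one_apply]
    have hmem : g * x * g⁻¹ ∈ Subgroup.zpowers x := by
      rw [← ht, ← inv_mul_eq_one.1 heq]
      exact Subgroup.npow_mem_zpowers x _
    have hz2 : Subgroup.zpowers (g * x * g⁻¹) = Subgroup.zpowers x := by
      refine Subgroup.eq_of_le_of_card_ge (Subgroup.zpowers_le.2 hmem) (le_of_eq ?_)
      rw [Nat.card_zpowers, Nat.card_zpowers]
      exact (orderOf_injective (MulAut.conj g).toMonoidHom (MulEquiv.injective _) x).symm
    refine Subgroup.mem_normalizer_iff.2 fun u => ?_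
    constructor
    · intro hu
      obtain ⟨j, rfl⟩ := Subgroup.mem_zpowers_iff.1 hu
      rw [← conj_zpow]
      exact zpow_mem hmem j
    · intro hu
      rw [← hz2] at hu
      obtain ⟨j, hj⟩ := Subgroup.mem_zpowers_iff.1 hu
      rw [conj_zpow] at hj
      exact ⟨j, mul_left_cancel (mul_right_cancel hj)⟩
  -- the code of a line
  obtain ⟨N, hNdef⟩ : ∃ N, N = Subgroup.normalizer (Subgroup.zpowers x : Set G) := ⟨_, rfl⟩
  haveI : Fintype (G ⧸ N) := Fintype.ofFinite _
  let code : M → Option (ZMod p) := fun v =>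
    if b v L' = 0 then none else some (b v (U w) / b v L')
  have hinj : Function.Injective fun q : G ⧸ N => code (ψ q.out L') := by
    intro q q' hqq
    obtain ⟨c0, c1, c2, hv⟩ := hcoord q.out L' hηL
    obtain ⟨d0, d1, d2, hv'⟩ := hcoord q'.out L' hηL
    have hiso : ∀ g, b (ψ g L') (ψ g L') = 0 := fun g => by rw [hinv, hLL]
    have e := hiso q.out
    have e' := hiso q'.out
    rw [hv, hbb] at e
    rw [hv', hbb] at e'
    simp only [code, hv, hv', hbL, hbU] at hqq
    have hne : ∀ g c, ψ g L' = c → c ≠ 0 := fun g c hc h0 => by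
      subst hc
      have h := congrArg (ψ g⁻¹) h0
      rw [map_zero, ← Module.End.mul_apply, ← map_mul, inv_mul_cancel, map_one,
        Module.End.one_apply] at h
      exact hw2 h
    have hne1 := hne _ _ hv
    have hne2 := hne _ _ hv'
    obtain ⟨a, ha⟩ : ∃ a : ZMod p, ψ q.out L' = a • ψ q'.out L' := by
      by_cases hc : c0 = 0
      · by_cases hd : d0 = 0
        · subst hc hd
          have hc1 : c1 = 0 := by
            have : c1 ^ 2 * k = 0 := by linear_combination -e
            simpa [hk0] using this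
          have hd1 : d1 = 0 := by
            have : d1 ^ 2 * k = 0 := by linear_combination -e'
            simpa [hk0] using this
          subst hc1 hd1
          simp only [zero_smul, zero_add] at hv hv' hne2
          refine ⟨c2 / d2, ?_⟩
          have hd2 : d2 ≠ 0 := fun h => hne2 (by rw [h, zero_smul])
          rw [hv, hv', smul_smul, div_mul_cancel₀ _ hd2]
        · simp [hc, mul_eq_zero, hd, hk0] at hqq
      · by_cases hd : d0 = 0
        · simp [hc, mul_eq_zero, hd, hk0] at hqq
        · simp only [mul_eq_zero, hc, hd, hk0, or_self, if_false, Option.some.injEq] at hqq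
          rw [div_eq_div_iff (mul_ne_zero hc hk0) (mul_ne_zero hd hk0)] at hqq
          have h1 : d0 * c1 = c0 * d1 := by
            refine sub_eq_zero.1 ((mul_eq_zero.1 (?_ : (d0 * c1 - c0 * d1) * (k * k) = 0)).resolve_right
              (mul_ne_zero hk0 hk0))
            linear_combination -hqq
          have h2' : (2 : ZMod p) ≠ 0 := fun h2' => by
            have h2'' : ((2 : ℕ) : ZMod p) = 0 := by exact_mod_cast h2'
            have := Nat.le_of_dvd two_pos ((ZMod.natCast_eq_zero_iff _ _).1 h2'')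
            omega
          have h2 : d0 * c2 = c0 * d2 := by
            refine sub_eq_zero.1 ((mul_eq_zero.1 (?_ : (d0 * c2 - c0 * d2) * (2 * c0 * d0 * k) = 0)
              ).resolve_right (mul_ne_zero (mul_ne_zero (mul_ne_zero h2' hc) hd) hk0))
            linear_combination d0 ^ 2 * e - c0 ^ 2 * e' +
              ((d0 * c1 + c0 * d1) * k - 2 * c0 * d0 * y) * h1
          refine ⟨c0 / d0, ?_⟩
          rw [hv, hv', smul_add, smul_add, smul_smul, smul_smul, smul_smul, div_mul_cancel₀ _ hd]
          congr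
          · rw [div_mul_eq_mul_div, eq_div_iff hd, ← h1]; ring
          · rw [div_mul_eq_mul_div, eq_div_iff hd, ← h2]; ring
    have h5 : ψ (q'.out⁻¹ * q.out) L' = a • L' := by
      rw [map_mul, Module.End.mul_apply, ha, map_smul, ← Module.End.mul_apply, ← map_mul,
        inv_mul_cancel, map_one, Module.End.one_apply]
    have h6 : q'.out⁻¹ * q.out ∈ N := by
      have h7 := hstab _ a h5
      rwa [← hNdef] at h7
    rw [← QuotientGroup.out_eq' q, ← QuotientGroup.out_eq' q']
    exact (QuotientGroup.eq.2 h6).symm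
  have hle := Fintype.card_le_of_injective _ hinj
  rw [Fintype.card_option, ZMod.card, ← Nat.card_eq_fintype_card] at hle
  have hNP : Subgroup.normalizer ((P : Subgroup G) : Set G) = N := by rw [hP, hNdef]
  calc Nat.card (Sylow p G) = (Subgroup.normalizer ((P : Subgroup G) : Set G)).index :=
        P.card_eq_index_normalizer
    _ = Nat.card (G ⧸ N) := by rw [hNP, Subgroup.index_eq_card]
    _ ≤ p + 1 := hle

end CfsgLib.GreenThree
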