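import Cfsg.Agent.GreenThree.Lattice

/-!
# Two dimensional modules

A faithful two dimensional module in characteristic `p` gives at most `p + 1` Sylow subgroups: the
trace form on the operators carries the three dimensional module.
-/

set_option autoImplicit false
set_option linter.unusedSectionVars false
set_option linter.style.haveILetI false

namespace CfsgLib.GreenThree

open Finset CfsgLib.SmallDegree Polynomial
open scoped Classical Matrix

universe u v w

variable {p : ℕ} [hp : Fact p.Prime] {G : Type u} [Group G] [Finite G]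

/-- A reduction of the same degree. -/
theorem exists_model (A : ValuationSubring ℂ) [CharP (IsLocalRing.ResidueField A) p]
    {n : ℕ} (σ : Representation ℂ G (Fin n → ℂ)) (hinj : Function.Injective σ) :
    ∃ ρ : G →* Module.End (IsLocalRing.ResidueField A) (Fin n → IsLocalRing.ResidueField A),
      ∀ h : G, (orderOf h).Coprime p → ρ h = 1 → h = 1 := by
  obtain ⟨Λ, hΛ⟩ : ∃ Λ : Submodule A (Fin n → ℂ),
      Submodule.span A (Set.range fun a : G × Fin n => σ a.1 (Pi.single a.2 1)) = Λ := ⟨_, rfl⟩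
  haveI : Module.Finite A Λ := hΛ ▸ Module.Finite.span_of_finite A (Set.finite_range _)
  haveI : Module.Flat A Λ := Module.Flat.flat_iff_torsion_eq_bot_of_isBezout.2 (by
    rw [← Submodule.isTorsionFree_iff_torsion_eq_bot]
    infer_instance)
  haveI : Module.Free A Λ := Module.free_of_flat_of_isLocalRing
  let b₀ := Module.Free.chooseBasis A Λ
  obtain ⟨ι, hιdef⟩ : ∃ ι, ι = Module.Free.ChooseBasisIndex A Λ := ⟨_, rfl⟩
  have hmem : ∀ g i, σ g (Pi.single i 1) ∈ Λ := fun g i => by
    rw [← hΛ]; exact Submodule.subset_span ⟨(g, i), rfl⟩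
  -- the basis has `n` elements
  have hli : LinearIndependent A fun i => ((b₀ i : Λ) : Fin n → ℂ) :=
    b₀.linearIndependent.map' Λ.subtype (Submodule.ker_subtype Λ)
  have hliC : LinearIndependent ℂ fun i => ((b₀ i : Λ) : Fin n → ℂ) :=
    (LinearIndependent.iff_fractionRing A ℂ).1 hli
  have hspanC : ⊤ ≤ Submodule.span ℂ (Set.range fun i => ((b₀ i : Λ) : Fin n → ℂ)) := by
    intro v _
    rw [pi_eq_sum_univ v]
    refine Submodule.sum_mem _ fun i _ => Submodule.smul_mem _ _ ?_
    have hi : (fun j => if i = j then (1 : ℂ) else 0) = σ 1 (Pi.single i 1) := by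
      rw [map_one, Module.End.one_apply]
      funext j
      simp [Pi.single_apply, eq_comm]
    rw [hi]
    have h1 := congrArg Subtype.val (b₀.sum_repr ⟨σ 1 (Pi.single i 1), hmem 1 i⟩)
    simp only [Submodule.coe_sum, Submodule.coe_smul] at h1
    rw [← h1]
    refine Submodule.sum_mem _ fun j _ => ?_
    exact Submodule.smul_mem (Submodule.span ℂ _) ((b₀.repr ⟨σ 1 (Pi.single i 1), hmem 1 i⟩ j : A) : ℂ)
      (Submodule.subset_span ⟨j, rfl⟩)
  have hcard : Fintype.card (Module.Free.ChooseBasisIndex A Λ) = n := by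
    rw [← Module.finrank_eq_card_basis (Module.Basis.mk hliC hspanC), Module.finrank_fin_fun]
  let b := b₀.reindex (Fintype.equivFinOfCardEq hcard)
  obtain ⟨v, hv⟩ : ∃ v : Fin n → (Fin n → ℂ), ∀ i, v i = ((b i : Λ) : Fin n → ℂ) := ⟨_, fun _ => rfl⟩
  have hvspan : ∀ w, w ∈ Submodule.span ℂ (Set.range v) := fun w => by
    have h1 := hspanC (Submodule.mem_top (x := w))
    refine Submodule.span_mono ?_ h1
    rintro _ ⟨i, rfl⟩
    exact ⟨Fintype.equivFinOfCardEq hcard i, by simp [hv, b]⟩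
  -- the action
  have hinv : ∀ g, ∀ w ∈ Λ, σ g w ∈ Λ := by
    intro g w hw
    have h : Λ.map ((σ g).restrictScalars A) ≤ Λ := by
      conv_lhs => rw [← hΛ]
      rw [Submodule.map_span_le]
      rintro _ ⟨a, rfl⟩
      rw [LinearMap.restrictScalars_apply, ← Module.End.mul_apply, ← map_mul]
      exact hmem _ _
    exact h (Submodule.mem_map_of_mem hw)
  let T : G →* Module.End A Λ :=
    { toFun := fun g => ((σ g).restrictScalars A).restrict (hinv g)
      map_one' := LinearMap.ext fun w => Subtype.ext (by simp)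
      map_mul' := fun g h => LinearMap.ext fun w => Subtype.ext (show σ (g * h) w = σ g (σ h w) by rw [map_mul]; rfl) }
  have hT : ∀ g (w : Λ), ((T g w : Λ) : Fin n → ℂ) = σ g w := fun g w => rfl
  let res := IsLocalRing.residue A
  obtain ⟨R, hR⟩ : ∃ R : G →* Matrix (Fin n) (Fin n) A,
      ∀ g, R g = LinearMap.toMatrixAlgEquiv b (T g) :=
    ⟨(LinearMap.toMatrixAlgEquiv b).toMulEquiv.toMonoidHom.comp T, fun _ => rfl⟩
  obtain ⟨ρ, hρ⟩ : ∃ ρ : G →* Module.End (IsLocalRing.ResidueField A) (Fin n → IsLocalRing.ResidueField A),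
      ∀ g, ρ g = Matrix.toLinAlgEquiv' (res.mapMatrix (R g)) :=
    ⟨Matrix.toLinAlgEquiv'.toMulEquiv.toMonoidHom.comp ((res.mapMatrix.toMonoidHom).comp R),
      fun _ => rfl⟩
  refine ⟨ρ, fun h hco hh => ?_⟩
  obtain ⟨D, hD⟩ : ∃ D, D = R h - 1 := ⟨_, rfl⟩
  have hD0 : res.mapMatrix D = 0 := by
    rw [hρ] at hh
    rw [hD, map_sub, map_one, sub_eq_zero]
    exact (Matrix.toLinAlgEquiv'.injective (hh.trans (map_one Matrix.toLinAlgEquiv').symm))
  obtain ⟨S', hS'⟩ := exists_pow_one_add D (orderOf h)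
  rw [hD, add_sub_cancel, ← map_pow, pow_orderOf_eq_one, map_one, ← hD, add_assoc, left_eq_add]
    at hS'
  have hfac : D * ((orderOf h : Matrix (Fin n) (Fin n) A) + D * S') = 0 := by
    rw [mul_add, ← (Nat.cast_commute (orderOf h) D).eq, hS']
  have hunit : IsUnit ((orderOf h : Matrix (Fin n) (Fin n) A) + D * S') := by
    rw [Matrix.isUnit_iff_isUnit_det, ← isUnit_map_iff res, RingHom.map_det, map_add, map_mul, hD0,
      zero_mul, add_zero, map_natCast, ← Matrix.isUnit_iff_isUnit_det]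
    have h1 : ((orderOf h : ℕ) : IsLocalRing.ResidueField A) ≠ 0 := fun h0 => by
      rw [CharP.cast_eq_zero_iff (IsLocalRing.ResidueField A) p] at h0
      exact hp.out.one_lt.ne' (Nat.dvd_one.1 (hco ▸ Nat.dvd_gcd h0 dvd_rfl))
    have h2 := (isUnit_iff_ne_zero.2 h1).map
      (algebraMap (IsLocalRing.ResidueField A) (Matrix (Fin n) (Fin n) (IsLocalRing.ResidueField A)))
    rwa [map_natCast] at h2
  have hRh : R h = 1 := by
    have := hunit.mul_left_eq_zero.1 hfac
    rwa [hD, sub_eq_zero] at this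
  have hTh : T h = 1 := (LinearMap.toMatrixAlgEquiv b).injective (by rw [← hR, hRh, map_one])
  refine hinj (LinearMap.ext fun w => ?_)
  rw [map_one, Module.End.one_apply]
  induction hvspan w using Submodule.span_induction with
  | mem w hw =>
    obtain ⟨i, rfl⟩ := hw
    rw [hv, ← hT, hTh]
    rfl
  | zero => simp
  | add a a' _ _ ha ha' => rw [map_add, ha, ha']
  | smul c a _ ha => rw [map_smul, ha]

variable {k : Type v} [Field k] [CharP k p] {V : Type w} [AddCommGroup V] [Module k V]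
  [FiniteDimensional k V]

/-- **A plane.** -/
theorem card_sylow_le_of_plane (hp5 : 5 ≤ p) {x : G} (hx : orderOf x = p) (P : Sylow p G)
    (hP : (P : Subgroup G) = Subgroup.zpowers x)
    (hG : ∀ K : Subgroup G, K.Normal → x ∉ K → ∀ k ∈ K, Commute x k) (ρ : G →* Module.End k V)
    (hV : Module.finrank k V = 2) (hr : (ρ x - 1) * (ρ x - 1) = 0) (hρx : ρ x ≠ 1) :
    Nat.card (Sylow p G) ≤ p + 1 := by
  obtain ⟨N, hN⟩ : ∃ N, N = ρ x - 1 := ⟨_, rfl⟩
  rw [← hN] at hr
  have hN0 : N ≠ 0 := hN ▸ sub_ne_zero.2 hρx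
  have hNN : ∀ v, N (N v) = 0 := fun v => LinearMap.congr_fun hr v
  obtain ⟨v₀, hv₀⟩ : ∃ v, N v ≠ 0 := by
    by_contra hall
    push Not at hall
    exact hN0 (LinearMap.ext hall)
  have h2 : (2 : k) ≠ 0 := fun h2 => by
    have h2' : ((2 : ℕ) : k) = 0 := by exact_mod_cast h2
    rw [CharP.cast_eq_zero_iff k p] at h2'
    have := Nat.le_of_dvd two_pos h2'
    omega
  have hli : LinearIndependent k ![v₀, N v₀] := by
    refine LinearIndependent.pair_iff.2 fun s t hst => ?_
    have hs : s = 0 := by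
      have := congrArg N hst
      rw [map_add, map_smul, map_smul, hNN, smul_zero, add_zero, map_zero] at this
      exact (smul_eq_zero.1 this).resolve_right hv₀
    rw [hs, zero_smul, zero_add] at hst
    exact ⟨hs, (smul_eq_zero.1 hst).resolve_right hv₀⟩
  let bs := basisOfLinearIndependentOfCardEqFinrank hli (by rw [hV]; rfl)
  have hbs0 : bs 0 = v₀ := by simp [bs]
  have hbs1 : bs 1 = N v₀ := by simp [bs]
  obtain ⟨Z, hZ⟩ : ∃ Z : Module.End k V, Z = bs.constr k ![0, (-2 : k)⁻¹ • v₀] := ⟨_, rfl⟩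
  have hZ0 : Z v₀ = 0 := by rw [hZ, ← hbs0, Module.Basis.constr_basis]; simp
  have hZ1 : Z (N v₀) = (-2 : k)⁻¹ • v₀ := by rw [hZ, ← hbs1, Module.Basis.constr_basis]; simp
  have hNZN : N * Z * N = (-2 : k)⁻¹ • N := by
    refine bs.ext fun i => ?_
    fin_cases i
    · simp [hbs0, hZ1]
    · simp [hbs1, hNN]
  -- the operators
  obtain ⟨xi, hxi⟩ : ∃ xi, xi = ρ x⁻¹ := ⟨_, rfl⟩
  have hx' : ρ x = 1 + N := by rw [hN]; abel
  have hxi' : xi = 1 - N := by
    have h1 : xi * ρ x = 1 := by rw [hxi, ← map_mul, inv_mul_cancel, map_one]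
    calc xi = xi * ρ x * (1 - N) := by
          rw [mul_assoc, hx', show (1 + N) * (1 - N) = 1 by
            rw [mul_sub, mul_one, add_mul, one_mul, hr, add_zero, add_sub_cancel_right], mul_one]
      _ = 1 - N := by rw [h1, one_mul]
  have hNxi : N * xi = N := by rw [hxi', mul_sub, hr, sub_zero, mul_one]
  obtain ⟨U, hU⟩ : ∃ U, U = cjF ρ x - 1 := ⟨_, rfl⟩
  have hUU : ∀ A, U (U A) = (-2 : k) • (N * A * N) := by
    intro A
    rw [hU, cjF_sub_sub_apply, ← hN, ← hxi, br, br]
    have e1 : N * (N * A - A * N) - (N * A - A * N) * N = (-2 : k) • (N * A * N) := by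
      rw [mul_sub, sub_mul, ← mul_assoc N N A, hr, zero_mul, mul_assoc A N N, hr, mul_zero,
        ← mul_assoc N A N, zero_sub, sub_zero, neg_smul, two_smul, neg_add, sub_eq_add_neg]
    rw [e1, smul_mul_assoc, mul_assoc (N * A), ← mul_assoc N xi, hNxi, hNxi]
  have hU3 : ∀ A, U (U (U A)) = 0 := fun A => by
    rw [hUU, hU, cjF_sub_apply, ← hN, ← hxi, br]
    simp only [mul_sub, sub_mul, ← mul_assoc, hr, zero_mul, zero_sub, neg_mul]
    rw [mul_assoc (N * A * N) xi N, show xi * N = N by rw [hxi', sub_mul, hr, sub_zero, one_mul],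
      mul_assoc (N * A) N N, hr, mul_zero, neg_zero, smul_zero]
  have hUZ : U (U Z) = N := by
    rw [hUU, hNZN, smul_smul, mul_inv_cancel₀ (neg_ne_zero.2 h2), one_smul]
  have hUN : U N = 0 := by
    rw [hU, cjF_sub_apply, ← hN, br, sub_self, zero_mul]
  have hline : ∀ (g : G) (a : ℕ), g * x * g⁻¹ = x ^ a → cjF ρ g N = (a : k) • N := by
    intro g a hg
    have hpow : ∀ j : ℕ, ρ x ^ j = 1 + (j : k) • N := by
      intro j
      induction j with
      | zero => simp
      | succ j ih =>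
        rw [pow_succ, ih, hx', mul_add, mul_one, add_mul, one_mul, smul_mul_assoc, hr, smul_zero,
          add_zero, Nat.cast_succ, add_smul, one_smul, add_assoc]
    have e := congrArg ρ hg
    rw [map_mul, map_mul, map_pow, hpow] at e
    rw [cjF_apply, hN, mul_sub, sub_mul, e, mul_one, ← map_mul, mul_inv_cancel, map_one, ← hN,
      add_sub_cancel_left]
  -- the finite module
  letI : Module (ZMod p) (Module.End k V) :=
    AddCommGroup.zmodModule (n := p) (G := Module.End k V) (fun v => zmod_smul_zero k v)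
  obtain ⟨M, hM⟩ : ∃ M : Submodule (ZMod p) (Module.End k V),
      Submodule.span (ZMod p) (Set.range fun g => cjF ρ g Z) = M := ⟨_, rfl⟩
  haveI : FiniteDimensional (ZMod p) M := by
    rw [← hM]; exact FiniteDimensional.span_of_finite (ZMod p) (Set.finite_range _)
  obtain ⟨φ, hφ⟩ : ∃ φ : G →* Module.End (ZMod p) (Module.End k V),
      φ = linearModel (additive (cjF ρ)) := ⟨_, rfl⟩
  have hφa : ∀ g A, φ g A = cjF ρ g A := fun g A => by rw [hφ]; rfl
  have hinv : ∀ g, ∀ A ∈ M, φ g A ∈ M := by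
    intro g A hA
    have h : M.map (φ g) ≤ M := by
      conv_lhs => rw [← hM]
      rw [Submodule.map_span_le]
      rintro _ ⟨h, rfl⟩
      rw [hφa, ← Module.End.mul_apply, ← map_mul, ← hM]
      exact Submodule.subset_span ⟨g * h, rfl⟩
    exact h (Submodule.mem_map_of_mem hA)
  let ψ : G →* Module.End (ZMod p) M :=
    { toFun := fun g => (φ g).restrict (hinv g)
      map_one' := LinearMap.ext fun v => Subtype.ext (by simp)
      map_mul' := fun g h => LinearMap.ext fun v => Subtype.ext (by simp) }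
  have hψ : ∀ g (A : M), ((ψ g A : M) : Module.End k V) = cjF ρ g A := fun g A => hφa g A
  have hψU : ∀ A : M, (((ψ x - 1) A : M) : Module.End k V) = U A := fun A => by
    rw [hU, LinearMap.sub_apply, LinearMap.sub_apply, Module.End.one_apply, Module.End.one_apply,
      AddSubgroupClass.coe_sub, hψ]
  have hZM : Z ∈ M := by rw [← hM]; exact Submodule.subset_span ⟨1, by simp⟩
  obtain ⟨f, hf⟩ : ∃ f : ZMod p →+* k, f = ZMod.castHom (dvd_refl p) k := ⟨_, rfl⟩
  letI : Algebra (ZMod p) k := f.toAlgebra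
  obtain ⟨lam, hlam⟩ := LinearMap.exists_leftInverse_of_injective
    (LinearMap.toSpanSingleton (ZMod p) k (-2 : k)⁻¹)
    (LinearMap.ker_eq_bot.2 (smul_left_injective (ZMod p) (inv_ne_zero (neg_ne_zero.2 h2))))
  have hlam1 : lam (-2 : k)⁻¹ = 1 := by simpa using LinearMap.congr_fun hlam 1
  have hsmul : ∀ (c : ZMod p) (A : M), ((c • A : M) : Module.End k V) = f c • (A : Module.End k V) :=
    fun c A => by
    rw [Submodule.coe_smul, ← val_smul c, ← Nat.cast_smul_eq_nsmul k]
    congr 1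
    rw [← map_natCast f, ZMod.natCast_zmod_val]
  have hlsmul : ∀ (c : ZMod p) (t : k), lam (f c * t) = c • lam t := fun c t => by
    rw [show f c * t = c • t from rfl, map_smul]
  let b : LinearMap.BilinForm (ZMod p) M :=
    LinearMap.mk₂ (ZMod p)
      (fun A B => lam (LinearMap.trace k V ((A : Module.End k V) * (B : Module.End k V))))
      (fun A A' B => by rw [Submodule.coe_add, add_mul, map_add, map_add])
      (fun c A B => by rw [hsmul, smul_mul_assoc, map_smul, smul_eq_mul, hlsmul])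
      (fun A B B' => by rw [Submodule.coe_add, mul_add, map_add, map_add])
      (fun c A B => by rw [hsmul, mul_smul_comm, map_smul, smul_eq_mul, hlsmul])
  have hb : ∀ A B : M, b A B =
      lam (LinearMap.trace k V ((A : Module.End k V) * (B : Module.End k V))) := fun A B => rfl
  refine card_sylow_le_of_vector (ψ := ψ) (by omega) hx P hP hG ?_ b (fun A B => ?_) (fun g A B => ?_)
    (Z := ⟨Z, hZM⟩) (L := (ψ x - 1) ((ψ x - 1) ⟨Z, hZM⟩)) rfl ?_ (fun g a ha hg => ?_) ?_
  · refine pow_eq_zero_of_le (show 3 ≤ p - 1 by omega) (LinearMap.ext fun A => Subtype.ext ?_)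
    simp only [pow_succ, pow_zero, one_mul, Module.End.mul_apply, hψU, hU3, LinearMap.zero_apply,
      ZeroMemClass.coe_zero]
  · rw [hb, hb, LinearMap.trace_mul_comm]
  · rw [hb, hb, hψ, hψ, cjF_apply, cjF_apply, show ρ g * (A : Module.End k V) * ρ g⁻¹ * (ρ g * (B : Module.End k V) * ρ g⁻¹) =
      ρ g * ((A : Module.End k V) * (ρ g⁻¹ * ρ g) * (B : Module.End k V) * ρ g⁻¹) by
        simp only [mul_assoc],
      ← map_mul ρ g⁻¹ g, inv_mul_cancel, map_one, mul_one, LinearMap.trace_mul_comm,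
      mul_assoc ((A : Module.End k V) * (B : Module.End k V)), ← map_mul ρ g⁻¹ g, inv_mul_cancel,
      map_one, mul_one]
  · exact Subtype.ext (by rw [hψU, hψU, hψU, hU3]; rfl)
  · refine Subtype.ext ?_
    rw [hψ, hsmul, hψU, hψU, hUZ, hline g a.val hg, ← map_natCast f, ZMod.natCast_zmod_val]
  · rw [hb, hψU, hψU, hUZ, LinearMap.trace_eq_matrix_trace k bs, Matrix.trace, Fin.sum_univ_two]
    simp only [Matrix.diag, LinearMap.toMatrix_apply, Module.End.mul_apply, hbs0, hbs1, hNN, map_zero,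
      hZ1, map_smul]
    rw [← hbs0, bs.repr_self]
    have h3 : lam (2 : k)⁻¹ = -1 := by rw [← neg_neg ((2 : k)⁻¹), ← inv_neg, map_neg, hlam1]
    simp [h3]

end CfsgLib.GreenThree
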