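import Cfsg.Agent.GreenThree.Lines
import Mathlib.GroupTheory.SchurZassenhaus

/-!
# Weight vectors for the normalizer of a subgroup of prime order

From `U ^ 2 Z = L` with `L` a fixed vector spanning a line stable under `N⟨x⟩` one obtains a
`N⟨x⟩`-stable uniserial subspace, and projections onto it commuting with `N⟨x⟩`.
-/

set_option autoImplicit false
set_option linter.unusedSectionVars false
set_option linter.style.haveILetI false

namespace CfsgLib.GreenThree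

open Finset CfsgLib.SmallDegree
open scoped Classical

universe u v

variable {p : ℕ} [hp : Fact p.Prime] {G : Type u} [Group G] [Finite G]

/-- A complement to `⟨x⟩` in its normalizer. -/
theorem exists_complement {x : G} (hx : orderOf x = p) (hsq : ¬ p ^ 2 ∣ Nat.card G) :
    ∃ E : Subgroup G, E ≤ Subgroup.normalizer (Subgroup.zpowers x : Set G) ∧ ¬ p ∣ Nat.card E ∧
      ∀ g ∈ Subgroup.normalizer (Subgroup.zpowers x : Set G),
        ∃ (i : ℕ), ∃ y ∈ E, g = x ^ i * y := by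
  obtain ⟨N, hN⟩ : ∃ N, N = Subgroup.normalizer (Subgroup.zpowers x : Set G) := ⟨_, rfl⟩
  rw [← hN]
  have hle : Subgroup.zpowers x ≤ N := hN ▸ Subgroup.le_normalizer
  obtain ⟨P', hP'⟩ : ∃ P', P' = (Subgroup.zpowers x).subgroupOf N := ⟨_, rfl⟩
  haveI : P'.Normal := by
    rw [hP']
    exact (Subgroup.normal_subgroupOf_iff_le_normalizer hle).2 (le_of_eq hN)
  have hcP : Nat.card P' = p := by
    rw [hP', Nat.card_congr (Subgroup.subgroupOfEquivOfLe hle).toEquiv, Nat.card_zpowers, hx]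
  have hnd : ¬ p ∣ P'.index := fun hd => hsq <| by
    rw [sq]
    refine dvd_trans ?_ N.card_subgroup_dvd_card
    rw [← P'.card_mul_index, hcP]
    exact Nat.mul_dvd_mul_left p hd
  obtain ⟨K, hK⟩ := Subgroup.exists_right_complement'_of_coprime (N := P')
    (by rw [hcP]; exact hp.out.coprime_iff_not_dvd.2 hnd)
  refine ⟨K.map N.subtype, fun y hy => ?_, fun hd => hnd ?_, fun g hg => ?_⟩
  · obtain ⟨k, -, rfl⟩ := Subgroup.mem_map.1 hy
    exact k.2
  · rw [Subgroup.card_map_of_injective N.subtype_injective] at hd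
    rwa [hK.symm.index_eq_card]
  · obtain ⟨⟨⟨a, ha⟩, ⟨k, hk⟩⟩, he⟩ := hK.2 ⟨g, hg⟩
    have ha' : (a : G) ∈ Subgroup.zpowers x := by
      rw [SetLike.mem_coe, hP', Subgroup.mem_subgroupOf] at ha; exact ha
    rw [← mem_powers_iff_mem_zpowers, Submonoid.mem_powers_iff] at ha'
    obtain ⟨i, hi⟩ := ha'
    refine ⟨i, k, Subgroup.mem_map.2 ⟨k, hk, rfl⟩, ?_⟩
    rw [hi]
    exact (congrArg Subtype.val he).symm

variable {M : Type v} [AddCommGroup M] [Module (ZMod p) M] [FiniteDimensional (ZMod p) M]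
  {ψ : G →* Module.End (ZMod p) M} {x : G}

/-- The uniserial subspace. -/
def span3 (ψ : G →* Module.End (ZMod p) M) (x : G) (Z L : M) : Submodule (ZMod p) M :=
  Submodule.span (ZMod p) {Z, (ψ x - 1) Z, L}

theorem mem_span3 {Z L v : M} :
    v ∈ span3 ψ x Z L ↔ ∃ a b c : ZMod p, v = a • Z + b • (ψ x - 1) Z + c • L := by
  rw [span3, Submodule.mem_span_insert]
  constructor
  · rintro ⟨a, w, hw, rfl⟩
    obtain ⟨b, c, rfl⟩ := Submodule.mem_span_pair.1 hw
    exact ⟨a, b, c, by rw [add_assoc]⟩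
  · rintro ⟨a, b, c, rfl⟩
    exact ⟨a, _, Submodule.mem_span_pair.2 ⟨b, c, rfl⟩, by rw [add_assoc]⟩

theorem mem_span3_Z (Z L : M) : Z ∈ span3 ψ x Z L := mem_span3.2 ⟨1, 0, 0, by simp⟩

theorem mem_span3_UZ (Z L : M) : (ψ x - 1) Z ∈ span3 ψ x Z L := mem_span3.2 ⟨0, 1, 0, by simp⟩

theorem mem_span3_L (Z L : M) : L ∈ span3 ψ x Z L := mem_span3.2 ⟨0, 0, 1, by simp⟩

/-- **The stable uniserial subspace.** -/
theorem exists_weight (hx : orderOf x = p) (hsq : ¬ p ^ 2 ∣ Nat.card G) {Z L : M}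
    (hL : (ψ x - 1) ((ψ x - 1) Z) = L) (hUL : (ψ x - 1) L = 0) (hL0 : L ≠ 0)
    (hline : ∀ (g : G) (a : ZMod p), a ≠ 0 → g * x * g⁻¹ = x ^ a.val → ψ g L = a • L) :
    ∃ Z', (ψ x - 1) ((ψ x - 1) Z') = L ∧
      (∀ g ∈ Subgroup.normalizer (Subgroup.zpowers x : Set G), ∀ v ∈ span3 ψ x Z' L,
        ψ g v ∈ span3 ψ x Z' L) ∧
      ∀ b : LinearMap.BilinForm (ZMod p) M, (∀ g v v', b (ψ g v) (ψ g v') = b v v') →
        b Z' L = b Z L := by
  obtain ⟨E, hEN, hEp, hEgen⟩ := exists_complement hx hsq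
  obtain ⟨U, hUdef⟩ : ∃ U, U = ψ x - 1 := ⟨_, rfl⟩
  rw [← hUdef] at hL hUL
  have hx1 : x ≠ 1 := fun h => by rw [h, orderOf_one] at hx; exact hp.out.one_lt.ne hx
  -- the weights
  have hex : ∀ y : E, ∃ a : ZMod p, a ≠ 0 ∧ (y : G) * x * (y : G)⁻¹ = x ^ a.val := by
    intro y
    have h1 : (y : G) * x * (y : G)⁻¹ ∈ Subgroup.zpowers x :=
      (Subgroup.mem_normalizer_iff.1 (hEN y.2) x).1 (Subgroup.mem_zpowers x)
    rw [← mem_powers_iff_mem_zpowers, Submonoid.mem_powers_iff] at h1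
    obtain ⟨i, hi⟩ := h1
    refine ⟨(i : ZMod p), fun h0 => ?_, ?_⟩
    · rw [ZMod.natCast_eq_zero_iff, ← hx] at h0
      rw [orderOf_dvd_iff_pow_eq_one.1 h0] at hi
      exact hx1 (mul_eq_left.1 (mul_inv_eq_one.1 hi.symm))
    · rw [ZMod.val_natCast, ← hx, pow_mod_orderOf, hi]
  choose a ha0 ha using hex
  have haL : ∀ y : E, ψ y L = a y • L := fun y => hline _ _ (ha0 y) (ha y)
  have hamul : ∀ y y' : E, a (y * y') = a y * a y' := fun y y' => by
    have h := haL (y * y')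
    rw [Subgroup.coe_mul, map_mul, Module.End.mul_apply, haL, map_smul, haL, smul_smul] at h
    exact (smul_left_injective _ hL0 h.symm).trans (mul_comm _ _)
  have hainv : ∀ y : E, a y * a y⁻¹ = 1 := fun y => by
    have h1 : a (1 : E) = 1 := by
      have h := haL 1
      rw [OneMemClass.coe_one, map_one, Module.End.one_apply] at h
      exact smul_left_injective _ hL0 (h.symm.trans (one_smul _ L).symm)
    rw [← hamul, mul_inv_cancel, h1]
  -- conjugating `U`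
  have hu : ψ x = 1 + U := by rw [hUdef]; abel
  have huL : ∀ j : ℕ, (ψ x ^ j) L = L := by
    intro j
    induction j with
    | zero => simp
    | succ j ih =>
      rw [pow_succ', Module.End.mul_apply, ih, hu, LinearMap.add_apply, Module.End.one_apply, hUL,
        add_zero]
  obtain ⟨S, hS⟩ : ∃ S : ℕ → Module.End (ZMod p) M, ∀ b, S b = ∑ i ∈ range b, ψ x ^ i :=
    ⟨_, fun _ => rfl⟩
  have hUS : ∀ b, Commute U (S b) := fun b => by
    rw [hS, hUdef]
    exact Commute.sum_right _ _ _ fun i _ =>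
      ((Commute.refl _).sub_left (Commute.one_left _)).pow_right i
  have hgeom : ∀ b : ℕ, ψ (x ^ b) - 1 = U * S b := fun b => by
    rw [map_pow, hS, hUdef, mul_geom_sum]
  have hUy : ∀ y : E, U * ψ y = ψ y * (U * S (a y⁻¹).val) := fun y => by
    rw [← hgeom, ← ha y⁻¹, Subgroup.coe_inv, inv_inv, mul_sub, mul_one, ← map_mul, ← mul_assoc,
      ← mul_assoc, mul_inv_cancel, one_mul, map_mul, hUdef, sub_mul, one_mul]
  have hyU : ∀ y : E, ψ y * U = U * S (a y).val * ψ y := fun y => by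
    rw [← hgeom, ← ha y, sub_mul, one_mul, ← map_mul, inv_mul_cancel_right, map_mul, hUdef, mul_sub,
      mul_one]
  have hSL : ∀ b : ℕ, S b L = (b : ZMod p) • L := fun b => by
    rw [hS, LinearMap.sum_apply, sum_congr rfl fun i _ => huL i, sum_const, card_range,
      Nat.cast_smul_eq_nsmul]
  have hU2 : ∀ y : E, U (U (ψ y Z)) = a y⁻¹ • L := by
    intro y
    have h2 : U ^ 2 * ψ y = ψ y * (S (a y⁻¹).val ^ 2 * U ^ 2) := by
      rw [← ((hUS _).pow_pow 2 2).eq, ← (hUS _).mul_pow]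
      exact ((show SemiconjBy (ψ y) (U * S (a y⁻¹).val) U from (hUy y).symm).pow_right 2).eq.symm
    have h3 := LinearMap.congr_fun h2 Z
    simp only [pow_two, Module.End.mul_apply] at h3
    rw [h3, hL, hSL, map_smul, hSL, ZMod.natCast_zmod_val, map_smul, map_smul, haL, smul_smul,
      smul_smul]
    congr 1
    rw [mul_assoc, mul_comm _ (a y), hainv y, mul_one]
  -- the average
  haveI : Fintype E := Fintype.ofFinite _
  have hcard : (Fintype.card E : ZMod p) ≠ 0 := by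
    rw [Ne, ZMod.natCast_eq_zero_iff, ← Nat.card_eq_fintype_card]; exact hEp
  obtain ⟨Z', hZ'⟩ : ∃ Z', Z' = (Fintype.card E : ZMod p)⁻¹ • ∑ y : E, a y • ψ y Z := ⟨_, rfl⟩
  have hZ'2 : U (U Z') = L := by
    rw [hZ']
    simp only [map_smul, map_sum, hU2, smul_smul, hainv, one_smul, sum_const, card_univ]
    rw [← Nat.cast_smul_eq_nsmul (ZMod p), smul_smul, inv_mul_cancel₀ hcard, one_smul]
  refine ⟨Z', by rw [← hUdef]; exact hZ'2, fun g hg v hv => ?_, fun b hb => ?_⟩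
  · have hEZ : ∀ y : E, ψ y Z' = a y⁻¹ • Z' := by
      intro y
      rw [hZ', map_smul, map_sum, smul_comm (a y⁻¹), smul_sum (r := a y⁻¹)]
      congr 1
      refine Fintype.sum_equiv (Equiv.mulLeft y) _ _ fun z => ?_
      rw [map_smul, ← Module.End.mul_apply, ← map_mul, smul_smul, Equiv.coe_mulLeft, hamul,
        ← mul_assoc, mul_comm (a y⁻¹), hainv, one_mul, Subgroup.coe_mul]
    -- stability under `U`, hence under `ψ x` and the geometric sums
    have hUW : ∀ v ∈ span3 ψ x Z' L, U v ∈ span3 ψ x Z' L := by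
      intro v hv
      obtain ⟨a, b, c, rfl⟩ := mem_span3.1 hv
      rw [← hUdef, map_add, map_add, map_smul, map_smul, map_smul, hZ'2, hUL, smul_zero, add_zero]
      exact mem_span3.2 ⟨0, a, b, by rw [← hUdef, zero_smul, zero_add]⟩
    have hxW : ∀ (j : ℕ), ∀ v ∈ span3 ψ x Z' L, (ψ x ^ j) v ∈ span3 ψ x Z' L := by
      intro j
      induction j with
      | zero => intro v hv; simpa using hv
      | succ j ih =>
        intro v hv
        rw [pow_succ, Module.End.mul_apply]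
        refine ih _ ?_
        rw [hu, LinearMap.add_apply, Module.End.one_apply]
        exact add_mem hv (hUW v hv)
    obtain ⟨i, y, hy, rfl⟩ := hEgen g hg
    rw [map_mul, map_pow, Module.End.mul_apply]
    refine hxW i _ ?_
    obtain ⟨a', b', c', rfl⟩ := mem_span3.1 hv
    have hyy : ψ y = ψ ((⟨y, hy⟩ : E) : G) := rfl
    rw [hyy, map_add, map_add, map_smul, map_smul, map_smul]
    refine add_mem (add_mem (Submodule.smul_mem _ _ ?_) (Submodule.smul_mem _ _ ?_))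
      (Submodule.smul_mem _ _ ?_)
    · rw [hEZ]; exact Submodule.smul_mem _ _ (mem_span3_Z _ _)
    · rw [← hUdef, ← Module.End.mul_apply, hyU, Module.End.mul_apply, hEZ, map_smul,
        Module.End.mul_apply]
      refine Submodule.smul_mem _ _ (hUW _ ?_)
      rw [hS, LinearMap.sum_apply]
      exact Submodule.sum_mem _ fun j _ => hxW j _ (mem_span3_Z _ _)
    · rw [haL]; exact Submodule.smul_mem _ _ (mem_span3_L _ _)
  · have h1 : ∀ y : E, a y * b (ψ y Z) L = b Z L := fun y => by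
      have h := hb y Z L
      rw [haL, map_smul, smul_eq_mul] at h
      exact h
    rw [hZ', map_smul, LinearMap.smul_apply, map_sum, LinearMap.sum_apply]
    simp only [map_smul, LinearMap.smul_apply, smul_eq_mul, h1, sum_const, card_univ, nsmul_eq_mul]
    rw [← mul_assoc, inv_mul_cancel₀ hcard, one_mul]

/-- **The orthogonal projection**, and the bound on the Sylow subgroups. -/
theorem card_sylow_le_of_vector (hp3 : 3 ≤ p) (hx : orderOf x = p) (P : Sylow p G)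
    (hP : (P : Subgroup G) = Subgroup.zpowers x)
    (hG : ∀ K : Subgroup G, K.Normal → x ∉ K → ∀ k ∈ K, Commute x k)
    (hU : (ψ x - 1) ^ (p - 1) = 0) (b : LinearMap.BilinForm (ZMod p) M)
    (hsym : ∀ v v', b v v' = b v' v) (hinv : ∀ g v v', b (ψ g v) (ψ g v') = b v v')
    {Z L : M} (hL : (ψ x - 1) ((ψ x - 1) Z) = L) (hUL : (ψ x - 1) L = 0)
    (hline : ∀ (g : G) (a : ZMod p), a ≠ 0 → g * x * g⁻¹ = x ^ a.val → ψ g L = a • L)
    (hk : b Z L ≠ 0) : Nat.card (Sylow p G) ≤ p + 1 := by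
  have hsq : ¬ p ^ 2 ∣ Nat.card G := fun hd => by
    have h1 := (hp.out.pow_dvd_iff_le_factorization Nat.card_pos.ne').1 hd
    have h2 : Nat.card (P : Subgroup G) = p := by rw [hP, Nat.card_zpowers, hx]
    rw [P.card_eq_multiplicity] at h2
    have h3 := Nat.pow_le_pow_right hp.out.pos h1
    rw [h2] at h3
    nlinarith [hp.out.two_le]
  obtain ⟨Z', hZ'2, hW, hbZ⟩ := exists_weight hx hsq hL hUL (fun h => hk (by rw [h, map_zero])) hline
  obtain ⟨U, hUdef⟩ : ∃ U, U = ψ x - 1 := ⟨_, rfl⟩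
  obtain ⟨k, hkdef⟩ : ∃ k, k = b Z' L := ⟨_, rfl⟩
  have hk0 : k ≠ 0 := by rw [hkdef, hbZ b hinv]; exact hk
  rw [← hUdef] at hZ'2
  have hUL' : U L = 0 := by rw [hUdef]; exact hUL
  have hψx : ∀ v, ψ x v = v + U v := fun v => by
    rw [hUdef, LinearMap.sub_apply, Module.End.one_apply, add_sub_cancel]
  have hrel : ∀ A B, b (U A) B + b A (U B) + b (U A) (U B) = 0 := fun A B => by
    have h := hinv x A B
    rw [hψx, hψx] at h
    simp only [map_add, LinearMap.add_apply] at h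
    linear_combination h
  have hperp : ∀ A, b (U A) L = 0 := fun A => by
    have h := hrel A L
    rw [hUL'] at h
    simpa using h
  have hLL : b L L = 0 := by
    conv_lhs => arg 1; arg 2; rw [← hZ'2]
    exact hperp _
  have hUU : b (U Z') (U Z') = -k := by
    have h := hrel Z' (U Z')
    rw [hZ'2, hperp, ← hkdef] at h
    linear_combination h
  obtain ⟨z, hz⟩ : ∃ z, z = b Z' Z' := ⟨_, rfl⟩
  obtain ⟨y, hy⟩ : ∃ y, y = b Z' (U Z') := ⟨_, rfl⟩
  let α : M →ₗ[ZMod p] ZMod p := k⁻¹ • b.flip L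
  let β : M →ₗ[ZMod p] ZMod p := k⁻¹ • (y • α - b.flip (U Z'))
  let γ : M →ₗ[ZMod p] ZMod p := k⁻¹ • (b.flip Z' - z • α - y • β)
  obtain ⟨ε, hεdef⟩ : ∃ ε : Module.End (ZMod p) M,
      ε = α.smulRight Z' + β.smulRight (U Z') + γ.smulRight L := ⟨_, rfl⟩
  have hεA : ∀ A, ε A = α A • Z' + β A • U Z' + γ A • L := fun A => by rw [hεdef]; rfl
  have hmem : ∀ A, ε A ∈ span3 ψ x Z' L := fun A => mem_span3.2 ⟨_, _, _, by rw [hεA, hUdef]⟩
  have hpair : ∀ A, ∀ w ∈ span3 ψ x Z' L, b (ε A) w = b A w := by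
    intro A w hw
    have e1 : b (ε A) L = b A L := by
      simp [hεA, α, β, γ, hperp, hLL, ← hkdef, LinearMap.flip_apply]
      field_simp
    have e2 : b (ε A) (U Z') = b A (U Z') := by
      simp [hεA, α, β, γ, hsym L (U Z'), hperp, hUU, ← hy, LinearMap.flip_apply]
      field_simp
      ring
    have e3 : b (ε A) Z' = b A Z' := by
      simp [hεA, α, β, γ, hsym L Z', hsym (U Z') Z', ← hy, ← hz, ← hkdef, LinearMap.flip_apply]
      field_simp
      ring
    obtain ⟨a1, a2, a3, rfl⟩ := mem_span3.1 hw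
    rw [← hUdef]
    simp [e1, e2, e3]
  have hnd : ∀ v ∈ span3 ψ x Z' L, (∀ w ∈ span3 ψ x Z' L, b v w = 0) → v = 0 := by
    intro v hv h0
    obtain ⟨a1, a2, a3, rfl⟩ := mem_span3.1 hv
    have f1 := h0 L (mem_span3_L _ _)
    have f2 := h0 _ (mem_span3_UZ _ _)
    have f3 := h0 Z' (mem_span3_Z _ _)
    rw [← hUdef] at f1 f2 f3 ⊢
    simp [hperp, hLL, ← hkdef, hk0] at f1
    subst f1
    simp [hsym L (U Z'), hperp, hUU, hk0] at f2
    subst f2
    simp [hsym L Z', ← hkdef, hk0] at f3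
    subst f3
    simp
  have huniq : ∀ v v', v ∈ span3 ψ x Z' L → v' ∈ span3 ψ x Z' L →
      (∀ w ∈ span3 ψ x Z' L, b v w = b v' w) → v = v' := fun v v' hv hv' h =>
    sub_eq_zero.1 (hnd _ (sub_mem hv hv') fun w hw => by rw [map_sub, LinearMap.sub_apply, h w hw, sub_self])
  have hfix : ∀ v ∈ span3 ψ x Z' L, ε v = v := fun v hv =>
    huniq _ _ (hmem v) hv fun w hw => hpair v w hw
  refine card_sylow_le_of_form hp3 hx P hP hG hU b hsym hinv (ε := ε) ?_ ?_ ?_
    (hfix Z' (mem_span3_Z _ _)) (fun A => mem_span3.1 (hmem A)) (by rw [← hUdef]; exact hZ'2)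
    hUL (by rw [← hkdef]; exact hk0)
  · exact LinearMap.ext fun A => hfix _ (hmem A)
  · intro v v'
    calc b (ε v) v' = b v' (ε v) := hsym _ _
      _ = b (ε v') (ε v) := (hpair v' _ (hmem v)).symm
      _ = b (ε v) (ε v') := hsym _ _
      _ = b v (ε v') := hpair v _ (hmem v')
  · intro g hg
    refine LinearMap.ext fun A => huniq _ _ (hmem _) (hW g hg _ (hmem A)) fun w hw => ?_
    have hgi : ψ g⁻¹ w ∈ span3 ψ x Z' L := hW _ (inv_mem hg) w hw
    have e : ∀ v, b (ψ g v) w = b v (ψ g⁻¹ w) := fun v => by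
      rw [← hinv g v (ψ g⁻¹ w), ← Module.End.mul_apply, ← map_mul, mul_inv_cancel, map_one,
        Module.End.one_apply]
    rw [Module.End.mul_apply, hpair _ _ hw, e, Module.End.mul_apply, e, hpair _ _ hgi]

/-- A projection commuting with the normalizer, from a functional. -/
theorem exists_projection (hx : orderOf x = p) (hsq : ¬ p ^ 2 ∣ Nat.card G) {Z L : M}
    (hL : (ψ x - 1) ((ψ x - 1) Z) = L) (hUL : (ψ x - 1) L = 0)
    (hW : ∀ g ∈ Subgroup.normalizer (Subgroup.zpowers x : Set G), ∀ v ∈ span3 ψ x Z L,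
        ψ g v ∈ span3 ψ x Z L)
    (φ : M →ₗ[ZMod p] ZMod p) (hφU : ∀ A, φ ((ψ x - 1) ((ψ x - 1) ((ψ x - 1) A))) = 0)
    (hφL : φ L = 1) :
    ∃ ε : Module.End (ZMod p) M, ε * ε = ε ∧
      (∀ g ∈ Subgroup.normalizer (Subgroup.zpowers x : Set G), Commute ε (ψ g)) ∧
      ε Z = Z ∧ ∀ A, ε A ∈ span3 ψ x Z L := by
  obtain ⟨E, hEN, hEp, hEgen⟩ := exists_complement hx hsq
  obtain ⟨U, hUdef⟩ : ∃ U, U = ψ x - 1 := ⟨_, rfl⟩
  rw [← hUdef] at hL hUL hφU
  obtain ⟨s, hs⟩ : ∃ s, s = -φ (U Z) := ⟨_, rfl⟩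
  obtain ⟨t, ht⟩ : ∃ t, t = s ^ 2 - φ Z := ⟨_, rfl⟩
  obtain ⟨φ', hφ'⟩ : ∃ φ' : M →ₗ[ZMod p] ZMod p,
      φ' = φ + s • φ ∘ₗ U + t • φ ∘ₗ U ∘ₗ U := ⟨_, rfl⟩
  have hφ'A : ∀ A, φ' A = φ A + s * φ (U A) + t * φ (U (U A)) := fun A => by rw [hφ']; simp
  have h'L : φ' L = 1 := by simp [hφ'A, hUL, hφL]
  have h'UZ : φ' (U Z) = 0 := by simp [hφ'A, hL, hUL, hφL, hs]
  have h'Z : φ' Z = 0 := by
    rw [hφ'A, hL, hφL, mul_one, ht, hs]; ring
  have h'U : ∀ A, φ' (U (U (U A))) = 0 := fun A => by simp [hφ'A, hφU]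
  obtain ⟨π₀, hπ₀⟩ : ∃ π₀ : Module.End (ZMod p) M,
      ∀ A, π₀ A = φ' (U (U A)) • Z + φ' (U A) • U Z + φ' A • L :=
    ⟨(φ' ∘ₗ U ∘ₗ U).smulRight Z + (φ' ∘ₗ U).smulRight (U Z) + φ'.smulRight L, fun A => rfl⟩
  have hπU : Commute π₀ U := LinearMap.ext fun A => by simp [hπ₀, h'U, hL, hUL]
  have hπx : Commute π₀ (ψ x) := by
    rw [show ψ x = 1 + U by rw [hUdef]; abel]
    exact (Commute.one_right _).add_right hπU
  have hπmem : ∀ A, π₀ A ∈ span3 ψ x Z L := fun A => mem_span3.2 ⟨_, _, _, by rw [hπ₀, hUdef]⟩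
  have hπfix : ∀ v ∈ span3 ψ x Z L, π₀ v = v := by
    intro v hv
    obtain ⟨a, b, c, rfl⟩ := mem_span3.1 hv
    rw [← hUdef]
    simp [hπ₀, hL, hUL, h'L, h'UZ, h'Z]
  haveI : Fintype E := Fintype.ofFinite _
  have hcard : (Fintype.card E : ZMod p) ≠ 0 := by
    rw [Ne, ZMod.natCast_eq_zero_iff, ← Nat.card_eq_fintype_card]; exact hEp
  obtain ⟨ε, hε⟩ : ∃ ε, ε = (Fintype.card E : ZMod p)⁻¹ • ∑ y : E, ψ y * π₀ * ψ (y : G)⁻¹ := ⟨_, rfl⟩
  have hinv' : ∀ g : G, ψ g * ψ g⁻¹ = 1 := fun g => by rw [← map_mul, mul_inv_cancel, map_one]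
  have hmem : ∀ A, ε A ∈ span3 ψ x Z L := fun A => by
    rw [hε, LinearMap.smul_apply, LinearMap.sum_apply]
    refine Submodule.smul_mem _ _ (Submodule.sum_mem _ fun y _ => ?_)
    exact hW _ (hEN y.2) _ (hπmem _)
  have hfix : ∀ v ∈ span3 ψ x Z L, ε v = v := by
    intro v hv
    rw [hε, LinearMap.smul_apply, LinearMap.sum_apply,
      sum_congr rfl fun y (_ : y ∈ (univ : Finset E)) =>
        show (ψ y * π₀ * ψ (y : G)⁻¹) v = v by
          rw [Module.End.mul_apply, Module.End.mul_apply, hπfix _ (hW _ (inv_mem (hEN y.2)) v hv),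
            ← Module.End.mul_apply, hinv', Module.End.one_apply],
      sum_const, card_univ, ← Nat.cast_smul_eq_nsmul (ZMod p), smul_smul, inv_mul_cancel₀ hcard,
      one_smul]
  refine ⟨ε, LinearMap.ext fun A => hfix _ (hmem A), ?_, hfix Z (mem_span3_Z _ _), hmem⟩
  have hεE : ∀ y ∈ E, Commute ε (ψ y) := by
    intro y hy
    show ε * ψ y = ψ y * ε
    rw [hε, smul_mul_assoc, mul_smul_comm, sum_mul, mul_sum]
    congr 1
    refine (Fintype.sum_equiv (Equiv.mulLeft (⟨y, hy⟩ : E)) _ _ fun z => ?_).symm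
    simp only [Equiv.coe_mulLeft, Subgroup.coe_mul, mul_inv_rev, map_mul, mul_assoc]
    rw [← map_mul ψ y⁻¹ y, inv_mul_cancel, map_one, mul_one]
  have hεx : Commute ε (ψ x) := by
    rw [hε]
    refine (Commute.sum_left _ _ _ fun y _ => ?_).smul_left _
    have h1 : (y : G)⁻¹ * x * y ∈ Subgroup.zpowers x := by
      have := (Subgroup.mem_normalizer_iff.1 (inv_mem (hEN y.2)) x).1 (Subgroup.mem_zpowers x)
      rwa [inv_inv] at this
    rw [← mem_powers_iff_mem_zpowers, Submonoid.mem_powers_iff] at h1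
    obtain ⟨i, hi⟩ := h1
    have hc : Commute π₀ (ψ ((y : G)⁻¹ * x * y)) := by
      rw [← hi, map_pow]; exact hπx.pow_right i
    show _ = _
    calc ψ y * π₀ * ψ (y : G)⁻¹ * ψ x
        = ψ y * (π₀ * ψ ((y : G)⁻¹ * x * y)) * ψ (y : G)⁻¹ := by
          rw [map_mul, map_mul]; simp only [mul_assoc]; rw [hinv', mul_one]
      _ = ψ x * (ψ y * π₀ * ψ (y : G)⁻¹) := by
          rw [hc.eq, map_mul, map_mul]; simp only [← mul_assoc]; rw [hinv', one_mul]
  intro g hg
  obtain ⟨i, y, hy, rfl⟩ := hEgen g hg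
  rw [map_mul, map_pow]
  exact (hεx.pow_right i).mul_right (hεE y hy)

end CfsgLib.GreenThree
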